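import Cfsg.Agent.Lib.Leech.McLInvol.Involutions
import Cfsg.Agent.Lib.Leech.Sections
import Cfsg.Agent.Lib.Leech.Pairs
import Cfsg.Agent.Lib.Leech.Shells
import Cfsg.Prelude.Def_SporadicB

/-!
# The involutions of the McLaughlin group
-/

set_option autoImplicit false
set_option maxRecDepth 100000

namespace CfsgLib.Leech.McLInvol

open Cfsg CfsgLib.Golay CfsgLib.Leech CfsgLib.Leech.CoTwo CfsgLib.Leech.CoOne

theorem dot_AB : sqNorm (vecA : GolayPt → ℤ) = 48 ∧ sqNorm (vecB : GolayPt → ℤ) = 32 ∧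
    dotInt (vecA : GolayPt → ℤ) (vecB : GolayPt → ℤ) = 24 := by
  refine ⟨?_, ?_, ?_⟩
  · rw [coe_vecA, ← vec_ok.2.2.2.2.2.2.1, ← dotInt_toVec, sqNorm, dotInt]; simp [pow_two]
  · rw [coe_vecB, ← vec_ok.2.2.2.2.2.2.2.1, ← dotInt_toVec, sqNorm, dotInt]; simp [pow_two]
  · rw [coe_vecA, coe_vecB, dotInt_toVec, vec_ok.2.2.2.2.2.2.2.2.1]

/-- Pairs of vectors of squared lengths 48 and 32 with product 24 form one orbit. -/
theorem exists_map_norms {u w u' w' : leechLattice} (hu : sqNorm (u : GolayPt → ℤ) = 48)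
    (hw : sqNorm (w : GolayPt → ℤ) = 32) (hd : dotInt (u : GolayPt → ℤ) w = 24)
    (hu' : sqNorm (u' : GolayPt → ℤ) = 48) (hw' : sqNorm (w' : GolayPt → ℤ) = 32)
    (hd' : dotInt (u' : GolayPt → ℤ) w' = 24) : ∃ g : Co0, g • u = u' ∧ g • w = w' := by
  have key : ∀ {a b : leechLattice}, sqNorm (a : GolayPt → ℤ) = 48 → sqNorm (b : GolayPt → ℤ) = 32 →
      dotInt (a : GolayPt → ℤ) b = 24 → ∃ g : Co0, ((g • b : leechLattice) : GolayPt → ℤ) = pair8v ∧
        ((g • (a - b) : leechLattice) : GolayPt → ℤ) = pair8w := fun {a b} ha hb hd =>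
    exists_pair8 hb (by rw [AddSubgroup.coe_sub, sqNorm_sub, ha, hd, hb]; norm_num)
      (by rw [AddSubgroup.coe_sub, dotInt_sub_right, dotInt_comm, hd, dotInt_self, hb]; norm_num)
  obtain ⟨g, h1, h2⟩ := exists_map_pair (key hu hw hd) (key hu' hw' hd')
  refine ⟨g, ?_, h1⟩
  calc g • u = g • ((u - w) + w) := by rw [sub_add_cancel]
    _ = (u' - w') + w' := by rw [smul_add', h2, h1]
    _ = u' := sub_add_cancel _ _

theorem card_pairStab : Nat.card pairStab = 898128000 := by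
  set H := MulAction.stabilizer Co0 vecA with hH
  have horb1 : MulAction.orbit Co0 vecA = {x : leechLattice | sqNorm (x : GolayPt → ℤ) = 48} := by
    ext x
    constructor
    · rintro ⟨g, rfl⟩
      exact (sqNorm_smul_co g vecA).trans dot_AB.1
    · intro hx
      obtain ⟨g, hg⟩ := exists_smul_eq48 dot_AB.1 hx
      exact ⟨g, hg⟩
  have hn1 : {x : leechLattice | sqNorm (x : GolayPt → ℤ) = 48}.ncard = 16773120 := by
    rw [ncard_subtype fun x => sqNorm x = 48]
    exact ncard_norm48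
  have hH1 := H.index_mul_card
  rw [hH, MulAction.index_stabilizer, horb1, hn1, card_co0] at hH1
  set W : Set leechLattice := {x : leechLattice | sqNorm (x : GolayPt → ℤ) = 32 ∧
    dotInt (vecA : GolayPt → ℤ) x = 24} with hW
  have hn2 : W.ncard = 552 := by
    obtain ⟨g, hg⟩ := exists_smul_eq_base48 (v := vecA) dot_AB.1
    rw [hW, ncard_dot_one g hg]
    exact ncard_base48.1
  have horb2 : MulAction.orbit H vecB = W := by
    ext x
    constructor
    · rintro ⟨⟨g, hg⟩, rfl⟩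
      refine ⟨(sqNorm_smul_co g vecB).trans dot_AB.2.1, ?_⟩
      have h := dot_smul_co g vecA vecB
      rw [show g • vecA = vecA from hg] at h
      exact h.trans dot_AB.2.2
    · rintro ⟨hx, hux⟩
      obtain ⟨g, h1, h2⟩ := exists_map_norms dot_AB.1 dot_AB.2.1 dot_AB.2.2 dot_AB.1 hx hux
      exact ⟨⟨g, h1⟩, h2⟩
  have hH2 := (MulAction.stabilizer H vecB).index_mul_card
  rw [MulAction.index_stabilizer, horb2, hn2] at hH2
  have he : Nat.card pairStab = Nat.card (MulAction.stabilizer H vecB) :=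
    Nat.card_congr
      { toFun := fun g => ⟨⟨g.1, g.2.1⟩, g.2.2⟩
        invFun := fun g => ⟨g.1.1, g.1.2, g.2⟩
        left_inv := fun g => rfl
        right_inv := fun g => rfl }
  rw [he]
  generalize Nat.card H = a at hH1 hH2
  omega

theorem pairStab_iso : Nonempty (Spor.McL ≃* pairStab) := by
  have hdot : sqNorm ((-Spor.leechV : leechLattice) : GolayPt → ℤ) = 48 ∧
      sqNorm (Spor.leechU : GolayPt → ℤ) = 32 ∧
      dotInt ((-Spor.leechV : leechLattice) : GolayPt → ℤ) (Spor.leechU : GolayPt → ℤ) = 24 := by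
    decide +kernel
  obtain ⟨g, hA, hB⟩ := exists_map_norms hdot.1 hdot.2.1 hdot.2.2 dot_AB.1 dot_AB.2.1 dot_AB.2.2
  refine ⟨{
    toFun := fun x => ⟨g * ⟨x.1, x.2.1.1⟩ * g⁻¹, ?_, ?_⟩
    invFun := fun y => ⟨(g⁻¹ * y.1 * g).1, ⟨(g⁻¹ * y.1 * g).2, ?_⟩, ?_⟩
    left_inv := fun x => ?_
    right_inv := fun y => ?_
    map_mul' := fun x y => ?_ }⟩
  · have hx : (⟨x.1, x.2.1.1⟩ : Co0) • Spor.leechV = Spor.leechV := x.2.1.2
    show (g * ⟨x.1, x.2.1.1⟩ * g⁻¹) • vecA = vecA
    rw [mul_smul, mul_smul, ← hA, inv_smul_smul, smul_neg', hx]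
  · have hx : (⟨x.1, x.2.1.1⟩ : Co0) • Spor.leechU = Spor.leechU := x.2.2
    show (g * ⟨x.1, x.2.1.1⟩ * g⁻¹) • vecB = vecB
    rw [mul_smul, mul_smul, ← hB, inv_smul_smul, hx]
  · show (g⁻¹ * y.1 * g) • Spor.leechV = Spor.leechV
    have h : (g⁻¹ * y.1 * g) • (-Spor.leechV) = -Spor.leechV := by
      rw [mul_smul, mul_smul, hA, y.2.1, ← hA, inv_smul_smul]
    rwa [smul_neg', neg_inj] at h
  · show (g⁻¹ * y.1 * g) • Spor.leechU = Spor.leechU
    rw [mul_smul, mul_smul, hB, y.2.2, ← hB, inv_smul_smul]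
  · refine Subtype.ext (congrArg Subtype.val (show g⁻¹ * (g * ⟨x.1, x.2.1.1⟩ * g⁻¹) * g =
      (⟨x.1, x.2.1.1⟩ : Co0) by group) :)
  · refine Subtype.ext ?_
    show g * (g⁻¹ * y.1 * g) * g⁻¹ = y.1
    group
  · refine Subtype.ext ?_
    show g * (⟨x.1, x.2.1.1⟩ * ⟨y.1, y.2.1.1⟩ : Co0) * g⁻¹ =
      g * ⟨x.1, x.2.1.1⟩ * g⁻¹ * (g * ⟨y.1, y.2.1.1⟩ * g⁻¹)
    group

/-- A group with a map onto a centreless group, a kernel of order two and a root of its generator is a nonsplit double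
cover. -/
theorem nonsplit_of_hom {C K : Type*} [Group C] [Group K] (Φ : C →* K) (hs : Function.Surjective Φ)
    (hK : Subgroup.center K = ⊥) (z : C) (hz1 : z ≠ 1) (hker : ∀ g, g ∈ Φ.ker ↔ g = 1 ∨ g = z)
    (hz : ∀ g, g * z = z * g) (r : C) (hr : r * r = z) : IsNonsplitDoubleCover C K := by
  have hcen : Subgroup.center C = Φ.ker := by
    ext g
    constructor
    · intro hg
      rw [MonoidHom.mem_ker, ← Subgroup.mem_bot, ← hK, Subgroup.mem_center_iff]
      intro k
      obtain ⟨c, rfl⟩ := hs k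
      rw [← map_mul, ← map_mul, Subgroup.mem_center_iff.1 hg c]
    · intro hg
      rcases (hker g).1 hg with rfl | rfl
      · exact one_mem _
      · exact Subgroup.mem_center_iff.2 hz
  have h2 : Nat.card Φ.ker = 2 := by
    rw [Nat.card_eq_two_iff]
    refine ⟨1, ⟨z, (hker z).2 (Or.inr rfl)⟩, fun h => hz1 (congrArg Subtype.val h).symm,
      Set.eq_univ_iff_forall.2 fun g => ?_⟩
    rcases (hker g.1).1 g.2 with e | e
    · exact Or.inl (Subtype.ext e)
    · exact Or.inr (Subtype.ext e)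
  refine ⟨by rw [hcen, h2], ⟨(QuotientGroup.quotientMulEquivOfEq hcen).trans
    (QuotientGroup.quotientKerEquivOfSurjective Φ hs)⟩, fun L hL => hz1 ?_⟩
  obtain ⟨⟨⟨c, hc⟩, ⟨l, hl⟩⟩, e⟩ := hL.2 r
  have hzz : z * z = 1 := by
    rcases (hker (z * z)).1 (Subgroup.mul_mem _ ((hker z).2 (Or.inr rfl)) ((hker z).2 (Or.inr rfl))) with h | h
    · exact h
    · exact absurd (mul_eq_left.1 h) hz1
  have hcc : c * c = 1 := by
    rcases (hker c).1 (hcen ▸ hc) with rfl | rfl
    · exact one_mul 1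
    · exact hzz
  have hzl : z ∈ L := by
    have e' : c * l = r := e
    have hcl : c * l * (c * l) = c * c * (l * l) := by
      rw [mul_assoc c l, ← mul_assoc l c, (Subgroup.mem_center_iff.1 hc l), mul_assoc c l, ← mul_assoc c c]
    rw [← hr, ← e', hcl, hcc, one_mul]
    exact mul_mem hl hl
  have hzc : z ∈ Subgroup.center C := hcen ▸ (hker z).2 (Or.inr rfl)
  exact Subgroup.mem_bot.1 (hL.disjoint.le_bot ⟨hzc, hzl⟩)

theorem mclaughlin_involutions :
    (∀ x y : ↥Spor.McL, orderOf x = 2 → orderOf y = 2 → IsConj x y) ∧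
    ∃ t : ↥Spor.McL, orderOf t = 2 ∧
      IsNonsplitDoubleCover ↥(Subgroup.centralizer ({t} : Set ↥Spor.McL)) ↥(alternatingGroup (Fin 8)) := by
  obtain ⟨ψ⟩ := pairStab_iso
  set s : pairStab := ⟨tNeg, tNeg_mem.1⟩ with hs
  have hfin : Finite pairStab := Nat.finite_of_card_ne_zero (by rw [card_pairStab]; norm_num)
  have hconj : ∀ x : pairStab, orderOf x = 2 → IsConj s x := by
    intro x hx
    have hx2 : x * x = 1 := by
      have := pow_orderOf_eq_one x
      rwa [hx, pow_two] at this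
    obtain ⟨g, hg⟩ := exists_conj_mem card_pairStab (invCent.subgroupOf pairStab)
      (by rw [Nat.card_congr (Subgroup.subgroupOfEquivOfLe (H := invCent) (K := pairStab) inf_le_left).toEquiv,
        card_invCent]) hx2
    let y : invCent := ⟨((g * x * g⁻¹ : pairStab) : Co0), hg⟩
    have hy2 : y * y = 1 := by
      refine Subtype.ext ?_
      show ((g * x * g⁻¹ : pairStab) : Co0) * ((g * x * g⁻¹ : pairStab) : Co0) = 1
      rw [← Subgroup.coe_mul, show g * x * g⁻¹ * (g * x * g⁻¹) = g * (x * x) * g⁻¹ by group, hx2]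
      simp
    have hy1 : y ≠ 1 := by
      intro h
      have h' : g * x * g⁻¹ = 1 := Subtype.ext (congrArg (fun y : invCent => (y : Co0)) h)
      rw [conj_eq_one_iff] at h'
      rw [h', orderOf_one] at hx
      norm_num at hx
    obtain ⟨u, hu, e⟩ := pairConj_invCent hy2 hy1
    refine isConj_iff.2 ⟨g⁻¹ * ⟨u, hu⟩, ?_⟩
    have e' : (⟨u, hu⟩ : pairStab) * s * (⟨u, hu⟩ : pairStab)⁻¹ = g * x * g⁻¹ := Subtype.ext e
    calc g⁻¹ * ⟨u, hu⟩ * s * (g⁻¹ * ⟨u, hu⟩)⁻¹ = g⁻¹ * (⟨u, hu⟩ * s * (⟨u, hu⟩ : pairStab)⁻¹) * g := by group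
      _ = x := by rw [e']; group
  have hord : orderOf s = 2 := by
    refine orderOf_eq_prime ?_ fun h => tNeg_ne_one (congrArg Subtype.val h)
    rw [pow_two]
    exact Subtype.ext (congrArg (fun x : invCent => (x : Co0)) zInv_sq)
  refine ⟨fun x y hx hy => ?_, ψ.symm s, by rw [MulEquiv.orderOf_eq, hord], ?_⟩
  · have h := ((hconj (ψ x) (by rw [MulEquiv.orderOf_eq, hx])).symm).trans
      (hconj (ψ y) (by rw [MulEquiv.orderOf_eq, hy]))
    have h' := MonoidHom.map_isConj ψ.symm.toMonoidHom h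
    simpa using h'
  · let e : Subgroup.centralizer ({ψ.symm s} : Set Spor.McL) ≃* invCent :=
      { toFun := fun g => ⟨(ψ g.1 : Co0), (ψ g.1).2, by
          refine Subgroup.mem_centralizer_singleton_iff.2 ?_
          have h := congrArg ψ (Subgroup.mem_centralizer_singleton_iff.1 g.2)
          rw [map_mul, map_mul, MulEquiv.apply_symm_apply] at h
          have h' : (ψ g.1 : Co0) * tNeg = tNeg * (ψ g.1 : Co0) := congrArg Subtype.val h
          rw [tNeg, ← mul_assoc, ← negAut_comm, mul_assoc, mul_assoc] at h'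
          exact mul_left_cancel h'⟩
        invFun := fun y => ⟨ψ.symm ⟨y.1, y.2.1⟩, by
          refine Subgroup.mem_centralizer_singleton_iff.2 ?_
          rw [← map_mul, ← map_mul]
          exact congrArg ψ.symm (Subtype.ext (congrArg (fun x : invCent => (x : Co0)) (zInv_comm y)))⟩
        left_inv := fun g => Subtype.ext (ψ.symm_apply_apply g.1)
        right_inv := fun y => Subtype.ext (congrArg Subtype.val (ψ.apply_symm_apply ⟨y.1, y.2.1⟩) :)
        map_mul' := fun g h => Subtype.ext (congrArg Subtype.val (ψ.map_mul g.1 h.1) :) }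
    obtain ⟨Φ, hsurj, hker⟩ := exists_toAlt
    obtain ⟨r, hr⟩ := exists_sqrt
    refine nonsplit_of_hom (Φ.comp e.toMonoidHom) (hsurj.comp e.surjective)
      (alternatingGroup.center_eq_bot (by simp)) (e.symm zInv)
      (fun h => zInv_ne_one (e.symm.map_eq_one_iff.1 h)) (fun g => ?_) (fun g => ?_) (e.symm r) ?_
    · rw [MonoidHom.mem_ker, MonoidHom.comp_apply, ← MonoidHom.mem_ker, hker]
      constructor
      · rintro (h | h)
        · exact Or.inl (e.map_eq_one_iff.1 (Subtype.ext h))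
        · exact Or.inr (e.eq_symm_apply.2 (Subtype.ext h))
      · rintro (rfl | rfl)
        · exact Or.inl (by rw [map_one]; rfl)
        · exact Or.inr (congrArg Subtype.val (e.apply_symm_apply zInv))
    · exact e.injective (by rw [map_mul, map_mul, e.apply_symm_apply, zInv_comm])
    · rw [← map_mul, show r * r = zInv from Subtype.ext hr]

end CfsgLib.Leech.McLInvol
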