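import Cfsg.Agent.Lib.Leech.McLInvol.Data
import Cfsg.Agent.Lib.Leech.CoTwo.Checks

/-!
# Kernel checks of the tables of the involution centraliser of a two-vector stabiliser
-/

set_option autoImplicit false
set_option maxRecDepth 100000

namespace CfsgLib.Leech.McLInvol

open Cfsg CfsgLib.Golay CfsgLib.Leech.CoTwo

/-- The image of a coordinate list under an element of the extraspecial group. -/
def kImg (x : ℕ × ℕ) (l : List ℤ) : List ℤ :=
  (List.range 24).map fun i =>
    if (dc x.2).testBit i then -l.getD ((tr x.1).getD i 0) 0 else l.getD ((tr x.1).getD i 0) 0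

/-- An entry of the first table. -/
def wPair (i : ℕ) : ℕ × ℕ := tabW.getD i (0, 0)

/-- An entry of the second table. -/
def vPair (i : ℕ) : ℕ × ℕ := tabV.getD i (0, 0)

/-- The check of a product in the extraspecial group with a sign mask. -/
def prodOk (x y z : ℕ × ℕ) (m : ℕ) : Bool :=
  (List.range 24).all (fun i => (tr x.1).getD ((tr y.1).getD i 0) 0 == (tr z.1).getD i 0) &&
    m ^^^ (dc x.2 ^^^ imgMask (tr x.1) (dc y.2)) == dc z.2

/-- The check that two elements of the extraspecial group commute. -/
def commK (x y : ℕ × ℕ) : Bool :=
  dc x.2 ^^^ imgMask (tr x.1) (dc y.2) == dc y.2 ^^^ imgMask (tr y.1) (dc x.2)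

/-- The negation of the coordinates on the octad. -/
def flipO (l : List ℤ) : List ℤ :=
  (List.range 24).map fun i => if octMask.testBit i then -l.getD i 0 else l.getD i 0

theorem vec_ok : leechTest listA = true ∧ leechTest listB = true ∧ listA.length = 24 ∧
    listB.length = 24 ∧ listD.length = 24 ∧ List.zipWith (· - ·) listA listB = listD ∧
    dotL listA listA = 48 ∧ dotL listB listB = 32 ∧ dotL listA listB = 24 ∧
    (∀ i < 24, octMask.testBit i = true → listA.getD i 0 = 0 ∧ listB.getD i 0 = 0) := by
  decide +kernel

theorem tabW_ok : tabW.length = 16 ∧ tabW.Nodup ∧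
    (∀ i < 16, (wPair i).1 < 16 ∧ (wPair i).2 < 32 ∧ kImg (wPair i) listB = listB) ∧
    (List.range 16).all (fun a => (List.range 32).all fun b =>
      !(kImg (a, b) listB == listB) || tabW.contains (a, b)) = true ∧
    (List.range 16).all (fun i => (List.range 16).all fun j =>
      prodOk (wPair i) (wPair j) (wPair (i ^^^ j)) 0) = true := by
  decide +kernel

theorem tabV_ok : tabV.length = 16 ∧
    (∀ i < 16, (vPair i).1 < 16 ∧ (vPair i).2 < 32 ∧ kImg (vPair i) listD = listD) ∧
    (List.range 16).all (fun a => (List.range 32).all fun b =>
      !(kImg (a, b) listD == listD) || tabV.contains (a, b)) = true := by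
  decide +kernel

/-- The commutation pattern with the first table. -/
def commPat (j : ℕ) : List Bool := (List.range 16).map fun i => commK (vPair j) (wPair i)

theorem commPat_nodup : ((List.range 16).map commPat).Nodup := by decide +kernel

theorem dec_ok : (List.range 512).all (fun n =>
    let d := tabDec.getD n (0, 0, 0)
    decide (d.1 < 16) && decide (d.2.1 < 16) &&
      prodOk (wPair d.1) (vPair d.2.1) (n / 32, n % 32) (if d.2.2 == 0 then 0 else outMask)) = true := by
  decide +kernel

/-- The check of an automorphism fixing both vectors. -/
def fixOk (M : List (List (ℕ × ℤ))) : Bool :=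
  matCheck M (trMat M) && matCheck (trMat M) M &&
  ((List.range 24).all fun i => (M.getD i []).all fun e =>
    decide (e.1 < 24) && octMask.testBit i == octMask.testBit e.1) &&
  imgList M listA == listA && imgList M listB == listB

/-- The check of a conjugation on the first table. -/
def conjOk (M : List (List (ℕ × ℤ))) (P : List ℕ) : Bool :=
  (List.range 16).all fun w => decide (P.getD w 0 < 16) && genList.all fun l =>
    imgList M (kImg (wPair w) l) == kImg (wPair (P.getD w 0)) (imgList M l)

theorem genA_fix : fixOk genA = true ∧ conjOk genA (permG.getD 0 []) = true := by decide +kernel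

theorem genB_fix : fixOk genB = true ∧ conjOk genB (permG.getD 1 []) = true := by decide +kernel

theorem genC_fix : fixOk genC = true ∧ conjOk genC (permG.getD 2 []) = true := by decide +kernel

theorem matFour_ok : fixOk matFour = true ∧
    genList.all (fun l => imgList matFour (imgList matFour l) == flipO l) = true := by
  decide +kernel

/-- The table of permutations. -/
def permTable : List (List ℕ) := permG ++ wordTab.map fun e => e.1

theorem words_ok : permG.length = 3 ∧ permG.all (validL 16) = true ∧
    (List.range wordTab.length).all (fun m =>
      let e := wordTab.getD m ([], 0, 0)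
      validL 16 e.1 && decide (e.2.1 < 3) && decide (e.2.2 < 3 + m) &&
        e.1 == compL (permG.getD e.2.1 []) (permTable.getD e.2.2 [])) = true := by
  decide +kernel

/-- The point moved by the representatives of a level. -/
def unitPt (l : ℕ) : ℕ := 2 ^ l

theorem levels_ok : levelTab.map List.length = [15, 14, 12, 8] ∧
    (List.range 4).all (fun l =>
      (levelTab.getD l []).all (fun k => decide (k < permTable.length) &&
        (List.range l).all fun j => (permTable.getD k []).getD (unitPt j) 0 == unitPt j)) = true ∧
    ∀ l < 4, ((levelTab.getD l []).map fun k => (permTable.getD k []).getD (unitPt l) 0).Nodup := by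
  decide +kernel

/-- The check of a permutation carrying the octad to a given one and fixing both vectors. -/
def moveOk (L : List ℕ) (c : ℕ) : Bool :=
  validL 24 L && m24Test L && imgMask L octMask == c &&
    (List.range 24).all fun i => listA.getD (L.getD i 0) 0 == listA.getD i 0 &&
      listB.getD (L.getD i 0) 0 == listB.getD i 0

theorem oct_ok : inCode octInv = true ∧ octInv < 16777216 ∧ octInv ≠ 0 ∧ octInv ≠ octMask ∧
    (∀ i < 24, octInv.testBit i = true → listA.getD i 0 = 0 ∧ listB.getD i 0 = 0) ∧
    moveOk movePerm octInv = true ∧ moveOk moveOther (octInv ^^^ octMask) = true := by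
  decide +kernel

end CfsgLib.Leech.McLInvol
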