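import Mathlib.Data.Nat.Notation
import Mathlib.Data.Int.Notation

/-!
Generated data: two vectors of the lattice supported outside the octad, the stabiliser subgroups in
the extraspecial group and automorphisms fixing both vectors.
-/

set_option autoImplicit false

namespace CfsgLib.Leech.McLInvol

/-- A vector of squared length 48. -/
def listA : List ℤ :=
  [0, -2, 0, 2, 0, 0, 0, 2, 2, -4, 0, 0, 2, 2, 0, 2, 0, 0, 2, 0, 0, 0, 0, 0]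

/-- A vector of squared length 32. -/
def listB : List ℤ :=
  [0, 2, 0, 2, 0, 0, 0, 2, 2, 0, 0, 0, 2, 2, 0, 2, 0, 0, 2, 0, 0, 0, 0, 0]

/-- Their difference. -/
def listD : List ℤ :=
  [0, -4, 0, 0, 0, 0, 0, 0, 0, -4, 0, 0, 0, 0, 0, 0, 0, 0, 0, 0, 0, 0, 0, 0]

/-- The stabiliser of the second vector, numbered linearly. -/
def tabW : List (ℕ × ℕ) :=
  [(0, 0), (0, 30), (1, 0), (1, 30), (2, 0), (2, 30), (5, 0), (5, 30), (3, 0), (3, 30), (6, 0), (6, 30), (8, 0), (8, 30), (11, 0), (11, 30)]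

/-- The stabiliser of the difference. -/
def tabV : List (ℕ × ℕ) :=
  [(0, 0), (0, 7), (0, 8), (0, 15), (0, 19), (0, 20), (0, 27), (0, 28), (4, 0), (4, 7), (4, 8), (4, 15), (4, 19), (4, 20), (4, 27), (4, 28)]

/-- The decomposition of the 512 elements. -/
def tabDec : List (ℕ × ℕ × ℕ) :=
  [(0, 0, 0),
   (1, 0, 1),
   (1, 7, 0),
   (0, 7, 1),
   (0, 6, 1),
   (1, 6, 0),
   (1, 1, 1),
   (0, 1, 0),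
   (0, 2, 0),
   (1, 2, 1),
   (1, 5, 0),
   (0, 5, 1),
   (0, 4, 1),
   (1, 4, 0),
   (1, 3, 1),
   (0, 3, 0),
   (0, 3, 1),
   (1, 3, 0),
   (1, 4, 1),
   (0, 4, 0),
   (0, 5, 0),
   (1, 5, 1),
   (1, 2, 0),
   (0, 2, 1),
   (0, 1, 1),
   (1, 1, 0),
   (1, 6, 1),
   (0, 6, 0),
   (0, 7, 0),
   (1, 7, 1),
   (1, 0, 0),
   (0, 0, 1),
   (2, 0, 0),
   (3, 0, 1),
   (3, 7, 1),
   (2, 7, 0),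
   (2, 6, 0),
   (3, 6, 1),
   (3, 1, 1),
   (2, 1, 0),
   (2, 2, 0),
   (3, 2, 1),
   (3, 5, 1),
   (2, 5, 0),
   (2, 4, 0),
   (3, 4, 1),
   (3, 3, 1),
   (2, 3, 0),
   (2, 3, 1),
   (3, 3, 0),
   (3, 4, 0),
   (2, 4, 1),
   (2, 5, 1),
   (3, 5, 0),
   (3, 2, 0),
   (2, 2, 1),
   (2, 1, 1),
   (3, 1, 0),
   (3, 6, 0),
   (2, 6, 1),
   (2, 7, 1),
   (3, 7, 0),
   (3, 0, 0),
   (2, 0, 1),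
   (4, 0, 0),
   (5, 0, 1),
   (5, 7, 1),
   (4, 7, 0),
   (4, 6, 1),
   (5, 6, 0),
   (5, 1, 0),
   (4, 1, 1),
   (4, 2, 1),
   (5, 2, 0),
   (5, 5, 0),
   (4, 5, 1),
   (4, 4, 0),
   (5, 4, 1),
   (5, 3, 1),
   (4, 3, 0),
   (4, 3, 1),
   (5, 3, 0),
   (5, 4, 0),
   (4, 4, 1),
   (4, 5, 0),
   (5, 5, 1),
   (5, 2, 1),
   (4, 2, 0),
   (4, 1, 0),
   (5, 1, 1),
   (5, 6, 1),
   (4, 6, 0),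
   (4, 7, 1),
   (5, 7, 0),
   (5, 0, 0),
   (4, 0, 1),
   (8, 0, 0),
   (9, 0, 1),
   (9, 7, 0),
   (8, 7, 1),
   (8, 6, 1),
   (9, 6, 0),
   (9, 1, 1),
   (8, 1, 0),
   (8, 2, 1),
   (9, 2, 0),
   (9, 5, 1),
   (8, 5, 0),
   (8, 4, 0),
   (9, 4, 1),
   (9, 3, 0),
   (8, 3, 1),
   (8, 3, 0),
   (9, 3, 1),
   (9, 4, 0),
   (8, 4, 1),
   (8, 5, 1),
   (9, 5, 0),
   (9, 2, 1),
   (8, 2, 0),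
   (8, 1, 1),
   (9, 1, 0),
   (9, 6, 1),
   (8, 6, 0),
   (8, 7, 0),
   (9, 7, 1),
   (9, 0, 0),
   (8, 0, 1),
   (0, 8, 0),
   (1, 8, 1),
   (1, 15, 0),
   (0, 15, 1),
   (0, 14, 1),
   (1, 14, 0),
   (1, 9, 1),
   (0, 9, 0),
   (0, 10, 0),
   (1, 10, 1),
   (1, 13, 0),
   (0, 13, 1),
   (0, 12, 1),
   (1, 12, 0),
   (1, 11, 1),
   (0, 11, 0),
   (0, 11, 1),
   (1, 11, 0),
   (1, 12, 1),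
   (0, 12, 0),
   (0, 13, 0),
   (1, 13, 1),
   (1, 10, 0),
   (0, 10, 1),
   (0, 9, 1),
   (1, 9, 0),
   (1, 14, 1),
   (0, 14, 0),
   (0, 15, 0),
   (1, 15, 1),
   (1, 8, 0),
   (0, 8, 1),
   (6, 0, 0),
   (7, 0, 1),
   (7, 7, 0),
   (6, 7, 1),
   (6, 6, 0),
   (7, 6, 1),
   (7, 1, 0),
   (6, 1, 1),
   (6, 2, 1),
   (7, 2, 0),
   (7, 5, 1),
   (6, 5, 0),
   (6, 4, 1),
   (7, 4, 0),
   (7, 3, 1),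
   (6, 3, 0),
   (6, 3, 1),
   (7, 3, 0),
   (7, 4, 1),
   (6, 4, 0),
   (6, 5, 1),
   (7, 5, 0),
   (7, 2, 1),
   (6, 2, 0),
   (6, 1, 0),
   (7, 1, 1),
   (7, 6, 0),
   (6, 6, 1),
   (6, 7, 0),
   (7, 7, 1),
   (7, 0, 0),
   (6, 0, 1),
   (10, 0, 0),
   (11, 0, 1),
   (11, 7, 1),
   (10, 7, 0),
   (10, 6, 0),
   (11, 6, 1),
   (11, 1, 1),
   (10, 1, 0),
   (10, 2, 1),
   (11, 2, 0),
   (11, 5, 0),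
   (10, 5, 1),
   (10, 4, 1),
   (11, 4, 0),
   (11, 3, 0),
   (10, 3, 1),
   (10, 3, 0),
   (11, 3, 1),
   (11, 4, 1),
   (10, 4, 0),
   (10, 5, 0),
   (11, 5, 1),
   (11, 2, 1),
   (10, 2, 0),
   (10, 1, 1),
   (11, 1, 0),
   (11, 6, 0),
   (10, 6, 1),
   (10, 7, 1),
   (11, 7, 0),
   (11, 0, 0),
   (10, 0, 1),
   (4, 8, 0),
   (5, 8, 1),
   (5, 15, 1),
   (4, 15, 0),
   (4, 14, 1),
   (5, 14, 0),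
   (5, 9, 0),
   (4, 9, 1),
   (4, 10, 1),
   (5, 10, 0),
   (5, 13, 0),
   (4, 13, 1),
   (4, 12, 0),
   (5, 12, 1),
   (5, 11, 1),
   (4, 11, 0),
   (4, 11, 1),
   (5, 11, 0),
   (5, 12, 0),
   (4, 12, 1),
   (4, 13, 0),
   (5, 13, 1),
   (5, 10, 1),
   (4, 10, 0),
   (4, 9, 0),
   (5, 9, 1),
   (5, 14, 1),
   (4, 14, 0),
   (4, 15, 1),
   (5, 15, 0),
   (5, 8, 0),
   (4, 8, 1),
   (12, 0, 0),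
   (13, 0, 1),
   (13, 7, 1),
   (12, 7, 0),
   (12, 6, 1),
   (13, 6, 0),
   (13, 1, 0),
   (12, 1, 1),
   (12, 2, 0),
   (13, 2, 1),
   (13, 5, 1),
   (12, 5, 0),
   (12, 4, 1),
   (13, 4, 0),
   (13, 3, 0),
   (12, 3, 1),
   (12, 3, 0),
   (13, 3, 1),
   (13, 4, 1),
   (12, 4, 0),
   (12, 5, 1),
   (13, 5, 0),
   (13, 2, 0),
   (12, 2, 1),
   (12, 1, 0),
   (13, 1, 1),
   (13, 6, 1),
   (12, 6, 0),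
   (12, 7, 1),
   (13, 7, 0),
   (13, 0, 0),
   (12, 0, 1),
   (8, 8, 0),
   (9, 8, 1),
   (9, 15, 0),
   (8, 15, 1),
   (8, 14, 1),
   (9, 14, 0),
   (9, 9, 1),
   (8, 9, 0),
   (8, 10, 1),
   (9, 10, 0),
   (9, 13, 1),
   (8, 13, 0),
   (8, 12, 0),
   (9, 12, 1),
   (9, 11, 0),
   (8, 11, 1),
   (8, 11, 0),
   (9, 11, 1),
   (9, 12, 0),
   (8, 12, 1),
   (8, 13, 1),
   (9, 13, 0),
   (9, 10, 1),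
   (8, 10, 0),
   (8, 9, 1),
   (9, 9, 0),
   (9, 14, 1),
   (8, 14, 0),
   (8, 15, 0),
   (9, 15, 1),
   (9, 8, 0),
   (8, 8, 1),
   (6, 8, 0),
   (7, 8, 1),
   (7, 15, 0),
   (6, 15, 1),
   (6, 14, 0),
   (7, 14, 1),
   (7, 9, 0),
   (6, 9, 1),
   (6, 10, 1),
   (7, 10, 0),
   (7, 13, 1),
   (6, 13, 0),
   (6, 12, 1),
   (7, 12, 0),
   (7, 11, 1),
   (6, 11, 0),
   (6, 11, 1),
   (7, 11, 0),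
   (7, 12, 1),
   (6, 12, 0),
   (6, 13, 1),
   (7, 13, 0),
   (7, 10, 1),
   (6, 10, 0),
   (6, 9, 0),
   (7, 9, 1),
   (7, 14, 0),
   (6, 14, 1),
   (6, 15, 0),
   (7, 15, 1),
   (7, 8, 0),
   (6, 8, 1),
   (14, 0, 0),
   (15, 0, 1),
   (15, 7, 0),
   (14, 7, 1),
   (14, 6, 0),
   (15, 6, 1),
   (15, 1, 0),
   (14, 1, 1),
   (14, 2, 0),
   (15, 2, 1),
   (15, 5, 0),
   (14, 5, 1),
   (14, 4, 0),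
   (15, 4, 1),
   (15, 3, 0),
   (14, 3, 1),
   (14, 3, 0),
   (15, 3, 1),
   (15, 4, 0),
   (14, 4, 1),
   (14, 5, 0),
   (15, 5, 1),
   (15, 2, 0),
   (14, 2, 1),
   (14, 1, 0),
   (15, 1, 1),
   (15, 6, 0),
   (14, 6, 1),
   (14, 7, 0),
   (15, 7, 1),
   (15, 0, 0),
   (14, 0, 1),
   (14, 8, 0),
   (15, 8, 1),
   (15, 15, 0),
   (14, 15, 1),
   (14, 14, 0),
   (15, 14, 1),
   (15, 9, 0),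
   (14, 9, 1),
   (14, 10, 0),
   (15, 10, 1),
   (15, 13, 0),
   (14, 13, 1),
   (14, 12, 0),
   (15, 12, 1),
   (15, 11, 0),
   (14, 11, 1),
   (14, 11, 0),
   (15, 11, 1),
   (15, 12, 0),
   (14, 12, 1),
   (14, 13, 0),
   (15, 13, 1),
   (15, 10, 0),
   (14, 10, 1),
   (14, 9, 0),
   (15, 9, 1),
   (15, 14, 0),
   (14, 14, 1),
   (14, 15, 0),
   (15, 15, 1),
   (15, 8, 0),
   (14, 8, 1),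
   (12, 8, 0),
   (13, 8, 1),
   (13, 15, 1),
   (12, 15, 0),
   (12, 14, 1),
   (13, 14, 0),
   (13, 9, 0),
   (12, 9, 1),
   (12, 10, 0),
   (13, 10, 1),
   (13, 13, 1),
   (12, 13, 0),
   (12, 12, 1),
   (13, 12, 0),
   (13, 11, 0),
   (12, 11, 1),
   (12, 11, 0),
   (13, 11, 1),
   (13, 12, 1),
   (12, 12, 0),
   (12, 13, 1),
   (13, 13, 0),
   (13, 10, 0),
   (12, 10, 1),
   (12, 9, 0),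
   (13, 9, 1),
   (13, 14, 1),
   (12, 14, 0),
   (12, 15, 1),
   (13, 15, 0),
   (13, 8, 0),
   (12, 8, 1),
   (10, 8, 0),
   (11, 8, 1),
   (11, 15, 1),
   (10, 15, 0),
   (10, 14, 0),
   (11, 14, 1),
   (11, 9, 1),
   (10, 9, 0),
   (10, 10, 1),
   (11, 10, 0),
   (11, 13, 0),
   (10, 13, 1),
   (10, 12, 1),
   (11, 12, 0),
   (11, 11, 0),
   (10, 11, 1),
   (10, 11, 0),
   (11, 11, 1),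
   (11, 12, 1),
   (10, 12, 0),
   (10, 13, 0),
   (11, 13, 1),
   (11, 10, 1),
   (10, 10, 0),
   (10, 9, 1),
   (11, 9, 0),
   (11, 14, 0),
   (10, 14, 1),
   (10, 15, 1),
   (11, 15, 0),
   (11, 8, 0),
   (10, 8, 1),
   (2, 8, 0),
   (3, 8, 1),
   (3, 15, 1),
   (2, 15, 0),
   (2, 14, 0),
   (3, 14, 1),
   (3, 9, 1),
   (2, 9, 0),
   (2, 10, 0),
   (3, 10, 1),
   (3, 13, 1),
   (2, 13, 0),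
   (2, 12, 0),
   (3, 12, 1),
   (3, 11, 1),
   (2, 11, 0),
   (2, 11, 1),
   (3, 11, 0),
   (3, 12, 0),
   (2, 12, 1),
   (2, 13, 1),
   (3, 13, 0),
   (3, 10, 0),
   (2, 10, 1),
   (2, 9, 1),
   (3, 9, 0),
   (3, 14, 0),
   (2, 14, 1),
   (2, 15, 1),
   (3, 15, 0),
   (3, 8, 0),
   (2, 8, 1)]

/-- Twice an automorphism. -/
def genA : List (List (ℕ × ℤ)) :=
  [[(6, 2)],
   [(1, 2)],
   [(4, 2)],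
   [(13, 2)],
   [(11, 2)],
   [(5, 2)],
   [(10, 2)],
   [(7, 2)],
   [(3, 2)],
   [(9, 2)],
   [(0, 2)],
   [(2, 2)],
   [(18, 2)],
   [(8, 2)],
   [(14, 2)],
   [(12, 2)],
   [(22, 2)],
   [(19, 2)],
   [(15, 2)],
   [(20, 2)],
   [(17, 2)],
   [(16, 2)],
   [(21, 2)],
   [(23, 2)]]

/-- Twice an automorphism. -/
def genB : List (List (ℕ × ℤ)) :=
  [[(23, -2)],
   [(1, 2)],
   [(11, 2)],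
   [(13, 2)],
   [(4, -2)],
   [(2, -2)],
   [(0, 2)],
   [(15, 2)],
   [(3, 2)],
   [(9, 2)],
   [(10, 2)],
   [(5, 2)],
   [(12, 2)],
   [(8, 2)],
   [(20, 2)],
   [(18, 2)],
   [(22, 2)],
   [(17, -2)],
   [(7, 2)],
   [(14, -2)],
   [(19, 2)],
   [(16, -2)],
   [(21, -2)],
   [(6, -2)]]

/-- Twice an automorphism. -/
def genC : List (List (ℕ × ℤ)) :=
  [[(6, -1), (10, -1), (11, -1), (23, 1)],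
   [(1, 1), (9, 1), (18, 1), (19, -1)],
   [(0, -1), (2, 1), (4, 1), (5, 1)],
   [(3, 1), (15, 1), (20, 1), (22, -1)],
   [(0, 1), (2, 1), (4, 1), (5, -1)],
   [(6, -1), (10, -1), (11, 1), (23, -1)],
   [(0, 1), (2, -1), (4, 1), (5, 1)],
   [(7, 1), (13, 1), (14, 1), (21, -1)],
   [(3, 1), (15, 1), (20, -1), (22, 1)],
   [(1, 1), (9, 1), (18, -1), (19, 1)],
   [(0, 1), (2, 1), (4, -1), (5, 1)],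
   [(6, -1), (10, 1), (11, -1), (23, -1)],
   [(8, 1), (12, 1), (16, 1), (17, -1)],
   [(1, 1), (9, -1), (18, 1), (19, 1)],
   [(7, 1), (13, -1), (14, 1), (21, 1)],
   [(8, 1), (12, 1), (16, -1), (17, 1)],
   [(3, 1), (15, -1), (20, 1), (22, 1)],
   [(8, 1), (12, -1), (16, 1), (17, 1)],
   [(7, 1), (13, 1), (14, -1), (21, 1)],
   [(7, -1), (13, 1), (14, 1), (21, 1)],
   [(8, -1), (12, 1), (16, 1), (17, 1)],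
   [(1, -1), (9, 1), (18, 1), (19, 1)],
   [(3, -1), (15, 1), (20, 1), (22, 1)],
   [(6, 1), (10, -1), (11, -1), (23, -1)]]

/-- The permutations induced by the generators. -/
def permG : List (List ℕ) :=
  [[0, 1, 8, 9, 4, 5, 12, 13, 10, 11, 2, 3, 14, 15, 6, 7],
   [0, 1, 8, 9, 15, 14, 7, 6, 11, 10, 3, 2, 4, 5, 12, 13],
   [0, 11, 8, 3, 4, 15, 12, 7, 6, 13, 14, 5, 2, 9, 10, 1]]

/-- Products: the permutation, generator, earlier entry. -/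
def wordTab : List (List ℕ × ℕ × ℕ) :=
  [([0, 1, 10, 11, 4, 5, 14, 15, 2, 3, 8, 9, 6, 7, 12, 13], 0, 0),
   ([0, 1, 11, 10, 15, 14, 4, 5, 3, 2, 8, 9, 12, 13, 7, 6], 1, 0),
   ([0, 11, 6, 13, 4, 15, 2, 9, 14, 5, 8, 3, 10, 1, 12, 7], 2, 0),
   ([0, 1, 10, 11, 7, 6, 13, 12, 3, 2, 9, 8, 4, 5, 14, 15], 0, 1),
   ([0, 1, 11, 10, 13, 12, 6, 7, 2, 3, 9, 8, 15, 14, 4, 5], 1, 1),
   ([0, 11, 6, 13, 1, 10, 7, 12, 5, 14, 3, 8, 4, 15, 2, 9], 2, 1),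
   ([0, 3, 10, 9, 4, 7, 14, 13, 12, 15, 6, 5, 8, 11, 2, 1], 0, 2),
   ([0, 2, 11, 9, 15, 13, 4, 6, 7, 5, 12, 14, 8, 10, 3, 1], 1, 2),
   ([0, 5, 6, 3, 4, 1, 2, 7, 12, 9, 10, 15, 8, 13, 14, 11], 2, 2),
   ([0, 1, 2, 3, 4, 5, 6, 7, 8, 9, 10, 11, 12, 13, 14, 15], 0, 3),
   ([0, 1, 3, 2, 15, 14, 12, 13, 8, 9, 11, 10, 7, 6, 4, 5], 1, 3),
   ([0, 11, 14, 5, 4, 15, 10, 1, 8, 3, 6, 13, 12, 7, 2, 9], 2, 3),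
   ([0, 1, 2, 3, 13, 12, 15, 14, 9, 8, 11, 10, 4, 5, 6, 7], 1, 4),
   ([0, 11, 5, 14, 1, 10, 4, 15, 3, 8, 6, 13, 2, 9, 7, 12], 2, 4),
   ([0, 2, 7, 5, 15, 13, 8, 10, 12, 14, 11, 9, 3, 1, 4, 6], 1, 5),
   ([0, 5, 12, 9, 4, 1, 8, 13, 10, 15, 6, 3, 14, 11, 2, 7], 2, 5),
   ([0, 1, 3, 2, 6, 7, 5, 4, 9, 8, 10, 11, 15, 14, 12, 13], 1, 6),
   ([0, 11, 14, 5, 7, 12, 9, 2, 3, 8, 13, 6, 4, 15, 10, 1], 2, 6),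
   ([0, 1, 2, 3, 5, 4, 7, 6, 8, 9, 10, 11, 13, 12, 15, 14], 1, 7),
   ([0, 3, 12, 15, 1, 2, 13, 14, 5, 6, 9, 10, 4, 7, 8, 11], 0, 8),
   ([0, 5, 12, 9, 11, 14, 7, 2, 15, 10, 3, 6, 4, 1, 8, 13], 2, 8),
   ([0, 9, 2, 11, 4, 13, 6, 15, 14, 7, 12, 5, 10, 3, 8, 1], 0, 9),
   ([0, 9, 3, 10, 15, 6, 12, 5, 4, 13, 7, 14, 11, 2, 8, 1], 1, 9),
   ([0, 8, 3, 11, 7, 15, 4, 12, 13, 5, 14, 6, 10, 2, 9, 1], 0, 10),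
   ([0, 8, 2, 10, 13, 5, 15, 7, 6, 14, 4, 12, 11, 3, 9, 1], 1, 10),
   ([0, 8, 5, 13, 1, 9, 4, 12, 7, 15, 2, 10, 6, 14, 3, 11], 2, 10),
   ([0, 14, 7, 9, 15, 1, 8, 6, 4, 10, 3, 13, 11, 5, 12, 2], 1, 11),
   ([0, 15, 12, 3, 4, 11, 8, 7, 2, 13, 14, 1, 6, 9, 10, 5], 2, 11),
   ([0, 1, 9, 8, 7, 6, 14, 15, 10, 11, 3, 2, 13, 12, 4, 5], 0, 13),
   ([0, 2, 12, 14, 15, 13, 3, 1, 11, 9, 7, 5, 4, 6, 8, 10], 1, 14),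
   ([0, 5, 10, 15, 4, 1, 14, 11, 6, 3, 12, 9, 2, 7, 8, 13], 2, 14),
   ([0, 5, 15, 10, 11, 14, 4, 1, 3, 6, 12, 9, 8, 13, 7, 2], 2, 16),
   ([0, 8, 7, 15, 1, 9, 6, 14, 2, 10, 5, 13, 3, 11, 4, 12], 2, 17),
   ([0, 5, 14, 11, 4, 1, 10, 15, 2, 7, 12, 9, 6, 3, 8, 13], 0, 18),
   ([0, 11, 3, 8, 12, 7, 15, 4, 13, 6, 14, 5, 1, 10, 2, 9], 2, 19),
   ([0, 2, 12, 14, 6, 4, 10, 8, 9, 11, 5, 7, 15, 13, 3, 1], 1, 20),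
   ([0, 5, 10, 15, 7, 2, 13, 8, 3, 6, 9, 12, 4, 1, 14, 11], 2, 20),
   ([0, 9, 14, 7, 1, 8, 15, 6, 5, 12, 11, 2, 4, 13, 10, 3], 0, 22),
   ([0, 3, 2, 1, 11, 8, 9, 10, 15, 12, 13, 14, 4, 7, 6, 5], 2, 22),
   ([0, 5, 14, 11, 3, 6, 13, 8, 7, 2, 9, 12, 4, 1, 10, 15], 0, 23),
   ([0, 10, 8, 2, 15, 5, 7, 13, 12, 6, 4, 14, 3, 9, 11, 1], 1, 24),
   ([0, 13, 8, 5, 4, 9, 12, 1, 10, 7, 2, 15, 14, 3, 6, 11], 2, 24),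
   ([0, 13, 3, 14, 1, 12, 2, 15, 4, 9, 7, 10, 5, 8, 6, 11], 2, 25),
   ([0, 6, 3, 5, 7, 1, 4, 2, 9, 15, 10, 12, 14, 8, 13, 11], 2, 26),
   ([0, 11, 8, 3, 5, 14, 13, 6, 7, 12, 15, 4, 2, 9, 10, 1], 1, 27),
   ([0, 11, 14, 5, 1, 10, 15, 4, 6, 13, 8, 3, 7, 12, 9, 2], 1, 28),
   ([0, 12, 6, 10, 13, 1, 11, 7, 15, 3, 9, 5, 2, 14, 4, 8], 1, 29),
   ([0, 7, 14, 9, 4, 3, 10, 13, 8, 15, 6, 1, 12, 11, 2, 5], 0, 30),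
   ([0, 13, 4, 9, 15, 2, 11, 6, 8, 5, 12, 1, 7, 10, 3, 14], 1, 30),
   ([0, 1, 10, 11, 6, 7, 12, 13, 3, 2, 9, 8, 5, 4, 15, 14], 1, 31),
   ([0, 8, 2, 10, 1, 9, 3, 11, 5, 13, 7, 15, 4, 12, 6, 14], 2, 32),
   ([0, 5, 2, 7, 4, 1, 6, 3, 12, 9, 14, 11, 8, 13, 10, 15], 0, 33),
   ([0, 5, 7, 2, 3, 6, 4, 1, 9, 12, 14, 11, 10, 15, 13, 8], 0, 34),
   ([0, 14, 13, 3, 2, 12, 15, 1, 9, 7, 4, 10, 11, 5, 6, 8], 1, 34),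
   ([0, 15, 1, 14, 5, 10, 4, 11, 3, 12, 2, 13, 6, 9, 7, 8], 2, 34),
   ([0, 6, 7, 1, 11, 13, 12, 10, 8, 14, 15, 9, 3, 5, 4, 2], 2, 35),
   ([0, 5, 6, 3, 4, 1, 2, 7, 8, 13, 14, 11, 12, 9, 10, 15], 0, 36),
   ([0, 15, 10, 5, 4, 11, 14, 1, 8, 7, 2, 13, 12, 3, 6, 9], 2, 36),
   ([0, 5, 3, 6, 2, 7, 1, 4, 9, 12, 10, 15, 11, 14, 8, 13], 2, 37),
   ([0, 8, 2, 10, 12, 4, 14, 6, 13, 5, 15, 7, 1, 9, 3, 11], 2, 38),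
   ([0, 14, 3, 13, 6, 8, 5, 11, 9, 7, 10, 4, 15, 1, 12, 2], 1, 39),
   ([0, 13, 10, 7, 11, 6, 1, 12, 15, 2, 5, 8, 4, 9, 14, 3], 2, 40),
   ([0, 9, 8, 1, 2, 11, 10, 3, 13, 4, 5, 12, 15, 6, 7, 14], 1, 41),
   ([0, 5, 6, 3, 9, 12, 15, 10, 13, 8, 11, 14, 4, 1, 2, 7], 0, 42),
   ([0, 5, 11, 14, 15, 10, 4, 1, 3, 6, 8, 13, 12, 9, 7, 2], 1, 44),
   ([0, 9, 6, 15, 4, 13, 2, 11, 14, 7, 8, 1, 10, 3, 12, 5], 2, 44),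
   ([0, 15, 9, 6, 1, 14, 8, 7, 4, 11, 13, 2, 5, 10, 12, 3], 0, 45),
   ([0, 5, 9, 12, 1, 4, 8, 13, 15, 10, 6, 3, 14, 11, 7, 2], 1, 45),
   ([0, 5, 6, 3, 15, 10, 9, 12, 7, 2, 1, 4, 8, 13, 14, 11], 2, 47),
   ([0, 5, 10, 15, 11, 14, 1, 4, 12, 9, 6, 3, 7, 2, 13, 8], 2, 48),
   ([0, 4, 7, 3, 5, 1, 2, 6, 13, 9, 10, 14, 8, 12, 15, 11], 1, 49),
   ([0, 15, 4, 11, 7, 8, 3, 12, 10, 5, 14, 1, 13, 2, 9, 6], 0, 51),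
   ([0, 1, 2, 3, 12, 13, 14, 15, 9, 8, 11, 10, 5, 4, 7, 6], 0, 52),
   ([0, 11, 8, 3, 1, 10, 9, 2, 14, 5, 6, 13, 15, 4, 7, 12], 1, 53),
   ([0, 15, 8, 7, 4, 11, 12, 3, 2, 13, 10, 5, 6, 9, 14, 1], 2, 54),
   ([0, 15, 7, 8, 3, 12, 4, 11, 13, 2, 10, 5, 14, 1, 9, 6], 2, 55),
   ([0, 12, 5, 9, 8, 4, 13, 1, 10, 6, 15, 3, 2, 14, 7, 11], 1, 56),
   ([0, 13, 1, 12, 14, 3, 15, 2, 9, 4, 8, 5, 7, 10, 6, 11], 1, 57),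
   ([0, 12, 7, 11, 5, 9, 2, 14, 6, 10, 1, 13, 3, 15, 4, 8], 2, 58),
   ([0, 15, 12, 3, 4, 11, 8, 7, 6, 9, 10, 5, 2, 13, 14, 1], 2, 59),
   ([0, 1, 14, 15, 4, 5, 10, 11, 6, 7, 8, 9, 2, 3, 12, 13], 2, 60),
   ([0, 5, 9, 12, 8, 13, 1, 4, 11, 14, 2, 7, 3, 6, 10, 15], 0, 61),
   ([0, 11, 8, 3, 4, 15, 12, 7, 5, 14, 13, 6, 1, 10, 9, 2], 1, 62),
   ([0, 12, 9, 5, 7, 11, 14, 2, 10, 6, 3, 15, 13, 1, 4, 8], 1, 63),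
   ([0, 15, 2, 13, 3, 12, 1, 14, 7, 8, 5, 10, 4, 11, 6, 9], 0, 64),
   ([0, 13, 6, 11, 8, 5, 14, 3, 9, 4, 15, 2, 1, 12, 7, 10], 2, 65),
   ([0, 15, 12, 3, 13, 2, 1, 14, 9, 6, 5, 10, 4, 11, 8, 7], 2, 66),
   ([0, 15, 5, 10, 1, 14, 4, 11, 3, 12, 6, 9, 2, 13, 7, 8], 2, 67),
   ([0, 13, 12, 1, 4, 9, 8, 5, 10, 7, 6, 11, 14, 3, 2, 15], 2, 68),
   ([0, 1, 13, 12, 11, 10, 6, 7, 4, 5, 9, 8, 15, 14, 2, 3], 2, 69),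
   ([0, 15, 13, 2, 11, 4, 6, 9, 1, 14, 12, 3, 10, 5, 7, 8], 2, 70),
   ([0, 15, 12, 3, 1, 14, 13, 2, 7, 8, 11, 4, 6, 9, 10, 5], 2, 71),
   ([0, 15, 14, 1, 5, 10, 11, 4, 2, 13, 12, 3, 7, 8, 9, 6], 2, 72),
   ([0, 1, 4, 5, 7, 6, 3, 2, 14, 15, 10, 11, 9, 8, 13, 12], 2, 74),
   ([0, 5, 6, 3, 11, 14, 13, 8, 10, 15, 12, 9, 1, 4, 7, 2], 2, 76),
   ([0, 1, 6, 7, 4, 5, 2, 3, 8, 9, 14, 15, 12, 13, 10, 11], 2, 77),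
   ([0, 1, 7, 6, 3, 2, 4, 5, 9, 8, 14, 15, 10, 11, 13, 12], 2, 78),
   ([0, 4, 14, 10, 11, 15, 5, 1, 3, 7, 13, 9, 8, 12, 6, 2], 1, 79),
   ([0, 15, 1, 14, 6, 9, 7, 8, 11, 4, 10, 5, 13, 2, 12, 3], 0, 80),
   ([0, 14, 13, 3, 5, 11, 8, 6, 12, 2, 1, 15, 9, 7, 4, 10], 0, 81),
   ([0, 1, 2, 3, 4, 5, 6, 7, 12, 13, 14, 15, 8, 9, 10, 11], 2, 82),
   ([0, 1, 12, 13, 15, 14, 3, 2, 7, 6, 11, 10, 8, 9, 4, 5], 1, 83),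
   ([0, 15, 13, 2, 6, 9, 11, 4, 5, 10, 8, 7, 3, 12, 14, 1], 2, 84),
   ([0, 5, 6, 3, 4, 1, 2, 7, 15, 10, 9, 12, 11, 14, 13, 8], 2, 85),
   ([0, 4, 10, 14, 6, 2, 12, 8, 3, 7, 9, 13, 5, 1, 15, 11], 1, 86),
   ([0, 1, 8, 9, 3, 2, 11, 10, 7, 6, 15, 14, 4, 5, 12, 13], 2, 87),
   ([0, 15, 12, 3, 10, 5, 6, 9, 11, 4, 7, 8, 1, 14, 13, 2], 0, 88),
   ([0, 1, 2, 3, 9, 8, 11, 10, 13, 12, 15, 14, 4, 5, 6, 7], 2, 89),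
   ([0, 1, 15, 14, 11, 10, 4, 5, 3, 2, 12, 13, 8, 9, 7, 6], 2, 90),
   ([0, 15, 14, 1, 4, 11, 10, 5, 2, 13, 12, 3, 6, 9, 8, 7], 0, 91),
   ([0, 1, 5, 4, 2, 3, 7, 6, 15, 14, 10, 11, 13, 12, 8, 9], 1, 92),
   ([0, 1, 9, 8, 5, 4, 12, 13, 11, 10, 2, 3, 14, 15, 7, 6], 2, 93),
   ([0, 1, 2, 3, 11, 10, 9, 8, 7, 6, 5, 4, 12, 13, 14, 15], 2, 94),
   ([0, 1, 10, 11, 15, 14, 5, 4, 8, 9, 2, 3, 7, 6, 13, 12], 2, 95),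
   ([0, 15, 12, 3, 5, 10, 9, 6, 14, 1, 2, 13, 11, 4, 7, 8], 2, 97),
   ([0, 15, 12, 3, 2, 13, 14, 1, 9, 6, 5, 10, 11, 4, 7, 8], 1, 100),
   ([0, 1, 11, 10, 12, 13, 7, 6, 5, 4, 14, 15, 9, 8, 2, 3], 2, 101),
   ([0, 12, 5, 9, 14, 2, 11, 7, 4, 8, 1, 13, 10, 6, 15, 3], 1, 102),
   ([0, 1, 9, 8, 12, 13, 5, 4, 15, 14, 6, 7, 3, 2, 10, 11], 2, 105),
   ([0, 15, 12, 3, 4, 11, 8, 7, 1, 14, 13, 2, 5, 10, 9, 6], 2, 106),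
   ([0, 4, 14, 10, 12, 8, 2, 6, 3, 7, 13, 9, 15, 11, 1, 5], 2, 107),
   ([0, 1, 11, 10, 9, 8, 2, 3, 6, 7, 13, 12, 15, 14, 4, 5], 1, 108),
   ([0, 1, 2, 3, 14, 15, 12, 13, 5, 4, 7, 6, 11, 10, 9, 8], 2, 109),
   ([0, 1, 10, 11, 4, 5, 14, 15, 8, 9, 2, 3, 12, 13, 6, 7], 2, 112),
   ([0, 1, 10, 11, 14, 15, 4, 5, 2, 3, 8, 9, 12, 13, 6, 7], 1, 114),
   ([0, 1, 2, 3, 7, 6, 5, 4, 10, 11, 8, 9, 13, 12, 15, 14], 0, 116),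
   ([0, 1, 2, 3, 15, 14, 13, 12, 10, 11, 8, 9, 5, 4, 7, 6], 2, 117),
   ([0, 1, 2, 3, 8, 9, 10, 11, 13, 12, 15, 14, 5, 4, 7, 6], 2, 118),
   ([0, 1, 2, 3, 4, 5, 6, 7, 14, 15, 12, 13, 10, 11, 8, 9], 1, 119),
   ([0, 4, 14, 10, 12, 8, 2, 6, 15, 11, 1, 5, 3, 7, 13, 9], 1, 120),
   ([0, 1, 10, 11, 4, 5, 14, 15, 13, 12, 7, 6, 9, 8, 3, 2], 1, 121),
   ([0, 1, 2, 3, 4, 5, 6, 7, 11, 10, 9, 8, 15, 14, 13, 12], 2, 122),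
   ([0, 15, 12, 3, 4, 11, 8, 7, 9, 6, 5, 10, 13, 2, 1, 14], 1, 123),
   ([0, 1, 2, 3, 10, 11, 8, 9, 7, 6, 5, 4, 13, 12, 15, 14], 1, 124),
   ([0, 1, 2, 3, 4, 5, 6, 7, 10, 11, 8, 9, 14, 15, 12, 13], 0, 126),
   ([0, 1, 2, 3, 6, 7, 4, 5, 8, 9, 10, 11, 14, 15, 12, 13], 0, 127),
   ([0, 15, 12, 3, 4, 11, 8, 7, 13, 2, 1, 14, 9, 6, 5, 10], 1, 132),
   ([0, 1, 2, 3, 4, 5, 6, 7, 15, 14, 13, 12, 11, 10, 9, 8], 0, 133),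
   ([0, 1, 2, 3, 4, 5, 6, 7, 13, 12, 15, 14, 9, 8, 11, 10], 2, 135),
   ([0, 1, 2, 3, 4, 5, 6, 7, 9, 8, 11, 10, 13, 12, 15, 14], 2, 139)]

/-- Coset representatives along the unit vectors. -/
def levelTab : List (List ℕ) :=
  [[0, 10, 9, 73, 11, 46, 50, 26, 24, 43, 2, 49, 44, 29, 30],
   [12, 13, 96, 113, 98, 99, 0, 31, 3, 4, 104, 92, 83, 111],
   [12, 21, 138, 128, 130, 110, 136, 115, 75, 15, 125, 129],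
   [12, 142, 137, 134, 103, 141, 131, 140]]

/-- Twice an automorphism squaring to the sign change. -/
def matFour : List (List (ℕ × ℤ)) :=
  [[(2, -2)],
   [(1, 2)],
   [(0, 2)],
   [(3, 2)],
   [(10, 2)],
   [(23, 2)],
   [(11, -2)],
   [(7, 2)],
   [(13, 2)],
   [(9, 2)],
   [(4, -2)],
   [(6, 2)],
   [(12, 2)],
   [(8, 2)],
   [(14, -2)],
   [(18, 2)],
   [(21, 2)],
   [(17, -2)],
   [(15, 2)],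
   [(20, -2)],
   [(19, -2)],
   [(16, 2)],
   [(22, 2)],
   [(5, -2)]]

/-- An octad missing both supports, meeting the octad in four points. -/
def octInv : ℕ :=
  15335473

/-- A permutation onto it. -/
def movePerm : List ℕ :=
  [22, 1, 4, 3, 17, 19, 23, 8, 15, 9, 0, 5, 18, 12, 14, 7, 16, 2, 13, 11, 20, 6, 10, 21]

/-- A permutation onto the symmetric difference. -/
def moveOther : List ℕ :=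
  [17, 1, 19, 3, 11, 22, 21, 18, 12, 9, 2, 10, 7, 8, 23, 15, 5, 16, 13, 4, 14, 20, 0, 6]

end CfsgLib.Leech.McLInvol
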