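import Cfsg.Agent.Lib.Leech.McLInvol.Checks
import Cfsg.Agent.Lib.Leech.CoOne.Kernel
import Cfsg.Agent.Lib.Golay.PermList

/-!
# The centraliser of a sign change in a stabiliser of two vectors acts on a group of order 16
-/

set_option autoImplicit false
set_option maxRecDepth 100000

namespace CfsgLib.Leech.McLInvol

open Cfsg CfsgLib.Golay CfsgLib.Leech CfsgLib.Leech.CoTwo CfsgLib.Leech.CoOne

open scoped Pointwise symmDiff

/-- The vector of squared length 48. -/
def vecA : leechLattice := ⟨toVec listA, mem_of_leechTest vec_ok.1⟩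

/-- The vector of squared length 32. -/
def vecB : leechLattice := ⟨toVec listB, mem_of_leechTest vec_ok.2.1⟩

theorem coe_vecA : (vecA : GolayPt → ℤ) = toVec listA := rfl

theorem coe_vecB : (vecB : GolayPt → ℤ) = toVec listB := rfl

theorem coe_vecD : ((vecA - vecB : leechLattice) : GolayPt → ℤ) = toVec listD := by
  funext p
  rw [AddSubgroup.coe_sub, Pi.sub_apply, coe_vecA, coe_vecB, ← vec_ok.2.2.2.2.2.1,
    toVec_zipWith _ vec_ok.2.2.1 vec_ok.2.2.2.1]

theorem tAut_vecA : tAut • vecA = -vecA := by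
  refine Subtype.ext (funext fun p => ?_)
  rw [tAut, coe_signAut_smul, signFlip_apply, AddSubgroup.coe_neg, Pi.neg_apply]
  split
  · rfl
  · rename_i h
    have hz := (vec_ok.2.2.2.2.2.2.2.2.2 _ (ptEquiv p).isLt (by
      by_contra hc
      exact h (mem_out.2 fun ho => hc (mem_toSet.1 ho)))).1
    rw [coe_vecA, toVec, hz]
    simp

theorem tAut_vecB : tAut • vecB = -vecB := by
  refine Subtype.ext (funext fun p => ?_)
  rw [tAut, coe_signAut_smul, signFlip_apply, AddSubgroup.coe_neg, Pi.neg_apply]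
  split
  · rfl
  · rename_i h
    have hz := (vec_ok.2.2.2.2.2.2.2.2.2 _ (ptEquiv p).isLt (by
      by_contra hc
      exact h (mem_out.2 fun ho => hc (mem_toSet.1 ho)))).2
    rw [coe_vecB, toVec, hz]
    simp

theorem vecA_ne_neg : -vecA ≠ vecA := by
  intro h
  have := congrArg (fun v : leechLattice => sqNorm ((v + vecA : leechLattice) : GolayPt → ℤ)) h
  simp only [neg_add_cancel, AddSubgroup.coe_zero] at this
  rw [AddSubgroup.coe_add, sqNorm_add, coe_vecA, sqNorm, sqNorm] at this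
  have e : ∑ i, toVec listA i ^ 2 = 48 := by
    rw [← vec_ok.2.2.2.2.2.2.1, ← dotInt_toVec, dotInt]; simp [pow_two]
  simp only [dotInt, ← pow_two, e, Pi.zero_apply] at this
  norm_num at this

/-- The involution fixing both vectors. -/
noncomputable def tNeg : Co0 := negAut * tAut

theorem tNeg_vecA : tNeg • vecA = vecA := by rw [tNeg, mul_smul, tAut_vecA, neg_smul', neg_neg]

theorem tNeg_vecB : tNeg • vecB = vecB := by rw [tNeg, mul_smul, tAut_vecB, neg_smul', neg_neg]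

/-- The stabiliser of both vectors. -/
noncomputable def pairStab : Subgroup Co0 :=
  MulAction.stabilizer Co0 vecA ⊓ MulAction.stabilizer Co0 vecB

theorem mem_pairStab {g : Co0} : g ∈ pairStab ↔ g • vecA = vecA ∧ g • vecB = vecB := Iff.rfl

/-- The stabiliser of both vectors in the centraliser of the sign change. -/
noncomputable def invCent : Subgroup Co0 := pairStab ⊓ cent0

theorem tNeg_mem : tNeg ∈ invCent :=
  ⟨⟨tNeg_vecA, tNeg_vecB⟩, mul_mem negAut_mem_cent0 tAut_mem.2⟩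

theorem kEl_toVec (a : Fin 16) (b : Fin 32) {v : leechLattice} {l : List ℤ}
    (hv : (v : GolayPt → ℤ) = toVec l) :
    ((kEl a b • v : leechLattice) : GolayPt → ℤ) = toVec (kImg (a.val, b.val) l) := by
  funext p
  have hs : (trP a).symm p = trP a p := by
    rw [Equiv.symm_apply_eq, ← Equiv.Perm.mul_apply, trP_sq, Equiv.Perm.one_apply]
  rw [kEl, coe_monoAut_smul, signedPerm, hs, hv, toVec, trP_apply, kImg, toVec_range]
  simp only [mem_toSet]

/-- An element of the first table. -/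
noncomputable def wE (i : Fin 16) : Co0 :=
  kEl ⟨(wPair i.val).1, (tabW_ok.2.2.1 _ i.isLt).1⟩ ⟨(wPair i.val).2, (tabW_ok.2.2.1 _ i.isLt).2.1⟩

/-- An element of the second table. -/
noncomputable def vE (i : Fin 16) : Co0 :=
  kEl ⟨(vPair i.val).1, (tabV_ok.2.1 _ i.isLt).1⟩ ⟨(vPair i.val).2, (tabV_ok.2.1 _ i.isLt).2.1⟩

theorem wE_vecB (i : Fin 16) : wE i • vecB = vecB :=
  Subtype.ext (by rw [wE, kEl_toVec _ _ coe_vecB, (tabW_ok.2.2.1 _ i.isLt).2.2]; rfl)

theorem vE_vecD (i : Fin 16) : vE i • (vecA - vecB) = vecA - vecB :=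
  Subtype.ext (by rw [vE, kEl_toVec _ _ coe_vecD, (tabV_ok.2.1 _ i.isLt).2.2, coe_vecD])

theorem toVec_getD_eq {a b : List ℤ} (ha : a.length = 24) (hb : b.length = 24)
    (h : toVec a = toVec b) : a = b := toVec_inj ha hb h

theorem exists_wE {a : Fin 16} {b : Fin 32} (h : kEl a b • vecB = vecB) : ∃ i, kEl a b = wE i := by
  have e := congrArg (fun v : leechLattice => (v : GolayPt → ℤ)) h
  rw [kEl_toVec _ _ coe_vecB, coe_vecB] at e
  have e' := toVec_inj (by simp [kImg]) vec_ok.2.2.2.1 e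
  have h2 := tabW_ok.2.2.2.1
  simp only [List.all_eq_true, List.mem_range] at h2
  have h3 := h2 a.val a.isLt b.val b.isLt
  simp only [e', beq_self_eq_true, Bool.not_true, Bool.false_or, List.contains_iff_mem] at h3
  obtain ⟨i, hi, ei⟩ := List.getElem_of_mem h3
  have hi' : i < 16 := tabW_ok.1 ▸ hi
  have ew : wPair i = (a.val, b.val) := by rw [wPair, List.getD_eq_getElem _ _ hi, ei]
  refine ⟨⟨i, hi'⟩, ?_⟩
  simp only [wE, ew]

theorem exists_vE {a : Fin 16} {b : Fin 32} (h : kEl a b • (vecA - vecB) = vecA - vecB) :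
    ∃ i, kEl a b = vE i := by
  have e := congrArg (fun v : leechLattice => (v : GolayPt → ℤ)) h
  rw [kEl_toVec _ _ coe_vecD, coe_vecD] at e
  have e' := toVec_inj (by simp [kImg]) vec_ok.2.2.2.2.1 e
  have h2 := tabV_ok.2.2
  simp only [List.all_eq_true, List.mem_range] at h2
  have h3 := h2 a.val a.isLt b.val b.isLt
  simp only [e', beq_self_eq_true, Bool.not_true, Bool.false_or, List.contains_iff_mem] at h3
  obtain ⟨i, hi, ei⟩ := List.getElem_of_mem h3
  have hi' : i < 16 := tabV_ok.1 ▸ hi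
  have ew : vPair i = (a.val, b.val) := by rw [vPair, List.getD_eq_getElem _ _ hi, ei]
  refine ⟨⟨i, hi'⟩, ?_⟩
  simp only [vE, ew]

theorem wE_injective : Function.Injective wE := by
  intro i j h
  have h2 := kC_injective (a₁ := (⟨_, (tabW_ok.2.2.1 _ i.isLt).1⟩, ⟨_, (tabW_ok.2.2.1 _ i.isLt).2.1⟩))
    (a₂ := (⟨_, (tabW_ok.2.2.1 _ j.isLt).1⟩, ⟨_, (tabW_ok.2.2.1 _ j.isLt).2.1⟩)) (Subtype.ext h)
  simp only [Prod.mk.injEq, Fin.mk.injEq] at h2
  have e : wPair i.val = wPair j.val := Prod.ext h2.1 h2.2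
  rw [wPair, wPair, List.getD_eq_getElem _ _ (tabW_ok.1.symm ▸ i.isLt),
    List.getD_eq_getElem _ _ (tabW_ok.1.symm ▸ j.isLt)] at e
  exact Fin.ext (tabW_ok.2.1.getElem_inj_iff.1 e)

theorem mask_lt (x y : Fin 16) (b b' : Fin 32) :
    dc b.val ^^^ imgMask (tr x.val) (dc b'.val) < 2 ^ 24 :=
  Nat.xor_lt_two_pow (disj_ok.2.2.1 _ b.isLt).2.2 (imgMask_lt (trP_valid x) _)

theorem kEl_prod {a a' a'' : Fin 16} {b b' b'' : Fin 32}
    (h : prodOk (a.val, b.val) (a'.val, b'.val) (a''.val, b''.val) 0 = true) :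
    kEl a b * kEl a' b' = kEl a'' b'' := by
  simp only [prodOk, Bool.and_eq_true, List.all_eq_true, List.mem_range, beq_iff_eq, Nat.zero_xor] at h
  obtain ⟨hc, e⟩ := kEl_mul a a' b b'
  rw [e, kEl]
  refine monoAut_congr (Equiv.ext fun p => ptEquiv.injective (Fin.ext ?_)) (congrArg toSet h.2)
  rw [Equiv.Perm.mul_apply, trP_apply, trP_apply, trP_apply]
  exact h.1 _ (ptEquiv p).isLt

theorem kEl_prod_out {a a' a'' : Fin 16} {b b' b'' : Fin 32}
    (h : prodOk (a.val, b.val) (a'.val, b'.val) (a''.val, b''.val) outMask = true) :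
    tAut * (kEl a b * kEl a' b') = kEl a'' b'' := by
  simp only [prodOk, Bool.and_eq_true, List.all_eq_true, List.mem_range, beq_iff_eq] at h
  obtain ⟨hc, e⟩ := kEl_mul a a' b b'
  rw [e, tAut_eq_mono, monoAut_mul, kEl]
  refine monoAut_congr (Equiv.ext fun p => ptEquiv.injective (Fin.ext ?_)) ?_
  · rw [one_mul, Equiv.Perm.mul_apply, trP_apply, trP_apply, trP_apply]
    exact h.1 _ (ptEquiv p).isLt
  · rw [one_smul, ← toSet_xor, h.2]

/-- The exclusive or of two indices. -/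
def xorFin (i j : Fin 16) : Fin 16 :=
  ⟨i.val ^^^ j.val, Nat.xor_lt_two_pow (n := 4) i.isLt j.isLt⟩

theorem wE_mul (i j : Fin 16) : wE i * wE j = wE (xorFin i j) := by
  have h := tabW_ok.2.2.2.2
  simp only [List.all_eq_true, List.mem_range] at h
  exact kEl_prod (h i.val i.isLt j.val j.isLt)

theorem wE_zero : wE 0 = 1 := by
  have h := wE_mul 0 0
  rw [show xorFin 0 0 = 0 from rfl] at h
  exact mul_eq_left.1 h

theorem wE_sq (i : Fin 16) : wE i * wE i = 1 := by
  rw [wE_mul, show xorFin i i = 0 from Fin.ext (Nat.xor_self _), wE_zero]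

/-- The group of the first table. -/
noncomputable def tableGroup : Subgroup Co0 where
  carrier := Set.range wE
  mul_mem' := by
    rintro _ _ ⟨i, rfl⟩ ⟨j, rfl⟩
    exact ⟨_, (wE_mul i j).symm⟩
  one_mem' := ⟨0, wE_zero⟩
  inv_mem' := by
    rintro _ ⟨i, rfl⟩
    exact ⟨i, (inv_eq_of_mul_eq_one_right (wE_sq i)).symm⟩

/-- The numbering of the group of the first table. -/
noncomputable def tableEquiv : Fin 16 ≃ tableGroup :=
  Equiv.ofBijective (fun i => ⟨wE i, i, rfl⟩)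
    ⟨fun _ _ h => wE_injective (congrArg Subtype.val h), fun ⟨_, i, e⟩ => ⟨i, Subtype.ext e⟩⟩

theorem tableEquiv_apply (i : Fin 16) : (tableEquiv i : Co0) = wE i := rfl

theorem conj_root {g : Co0} (hg : g ∈ cent0) (a : Fin 16) (b : Fin 32) :
    ∃ a' b', g * kEl a b * g⁻¹ = kEl a' b' := by
  refine exists_kEl_of_fix (smul_axis_of_fix fun i => ?_)
  rw [mul_smul, mul_smul, kEl_smul (cent0_fix_supp (inv_mem hg) (rootW_supp i)), smul_inv_smul]

theorem conj_wE (g : invCent) (i : Fin 16) : ∃ j, (g : Co0) * wE i * (g : Co0)⁻¹ = wE j := by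
  obtain ⟨a, b, e⟩ := conj_root g.2.2 ⟨(wPair i.val).1, (tabW_ok.2.2.1 _ i.isLt).1⟩
    ⟨(wPair i.val).2, (tabW_ok.2.2.1 _ i.isLt).2.1⟩
  have e' : (g : Co0) * wE i * (g : Co0)⁻¹ = kEl a b := e
  have hB : (g : Co0) • vecB = vecB := g.2.1.2
  obtain ⟨j, hj⟩ := exists_wE (a := a) (b := b) (by
    rw [← e', mul_smul, mul_smul, inv_smul_eq_iff.2 hB.symm, wE_vecB, hB])
  exact ⟨j, e'.trans hj⟩

theorem conj_vE (g : invCent) (i : Fin 16) : ∃ j, (g : Co0) * vE i * (g : Co0)⁻¹ = vE j := by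
  obtain ⟨a, b, e⟩ := conj_root g.2.2 ⟨(vPair i.val).1, (tabV_ok.2.1 _ i.isLt).1⟩
    ⟨(vPair i.val).2, (tabV_ok.2.1 _ i.isLt).2.1⟩
  have e' : (g : Co0) * vE i * (g : Co0)⁻¹ = kEl a b := e
  have hD : (g : Co0) • (vecA - vecB) = vecA - vecB := by
    rw [smul_sub', show (g : Co0) • vecA = vecA from g.2.1.1,
      show (g : Co0) • vecB = vecB from g.2.1.2]
  obtain ⟨j, hj⟩ := exists_vE (a := a) (b := b) (by
    rw [← e', mul_smul, mul_smul, inv_smul_eq_iff.2 hD.symm, vE_vecD, hD])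
  exact ⟨j, e'.trans hj⟩

theorem conj_mem (g : invCent) {w : Co0} (hw : w ∈ tableGroup) :
    (g : Co0) * w * (g : Co0)⁻¹ ∈ tableGroup := by
  obtain ⟨i, rfl⟩ := hw
  obtain ⟨j, e⟩ := conj_wE g i
  exact ⟨j, e.symm⟩

/-- Conjugation on the group of the first table. -/
noncomputable def conjAct : invCent →* MulAut tableGroup where
  toFun g :=
    { toFun := fun w => ⟨_, conj_mem g w.2⟩
      invFun := fun w => ⟨_, conj_mem g⁻¹ w.2⟩
      left_inv := fun w => Subtype.ext (by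
        show ((g⁻¹ : invCent) : Co0) * ((g : Co0) * w.1 * (g : Co0)⁻¹) * ((g⁻¹ : invCent) : Co0)⁻¹ = w.1
        rw [InvMemClass.coe_inv]; group)
      right_inv := fun w => Subtype.ext (by
        show (g : Co0) * (((g⁻¹ : invCent) : Co0) * w.1 * ((g⁻¹ : invCent) : Co0)⁻¹) * (g : Co0)⁻¹ = w.1
        rw [InvMemClass.coe_inv]; group)
      map_mul' := fun v w => Subtype.ext (by
        show (g : Co0) * (v.1 * w.1) * (g : Co0)⁻¹ =
          ((g : Co0) * v.1 * (g : Co0)⁻¹) * ((g : Co0) * w.1 * (g : Co0)⁻¹)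
        group) }
  map_one' := MulEquiv.ext fun w => Subtype.ext (by
    show ((1 : invCent) : Co0) * w.1 * ((1 : invCent) : Co0)⁻¹ = w.1
    simp)
  map_mul' g h := MulEquiv.ext fun w => Subtype.ext (by
    show ((g * h : invCent) : Co0) * w.1 * ((g * h : invCent) : Co0)⁻¹ =
      (g : Co0) * ((h : Co0) * w.1 * (h : Co0)⁻¹) * (g : Co0)⁻¹
    rw [Subgroup.coe_mul]; group)

theorem coe_conjAct (g : invCent) (w : tableGroup) :
    ((conjAct g w : tableGroup) : Co0) = (g : Co0) * (w : Co0) * (g : Co0)⁻¹ := rfl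

theorem commK_iff (i j : Fin 16) : commK (vPair j.val) (wPair i.val) = true ↔
    vE j * wE i = wE i * vE j := by
  simp only [vE, wE]
  obtain ⟨h1, e1⟩ := kEl_mul ⟨(vPair j.val).1, (tabV_ok.2.1 _ j.isLt).1⟩
    ⟨(wPair i.val).1, (tabW_ok.2.2.1 _ i.isLt).1⟩ ⟨(vPair j.val).2, (tabV_ok.2.1 _ j.isLt).2.1⟩
    ⟨(wPair i.val).2, (tabW_ok.2.2.1 _ i.isLt).2.1⟩
  obtain ⟨h2, e2⟩ := kEl_mul ⟨(wPair i.val).1, (tabW_ok.2.2.1 _ i.isLt).1⟩
    ⟨(vPair j.val).1, (tabV_ok.2.1 _ j.isLt).1⟩ ⟨(wPair i.val).2, (tabW_ok.2.2.1 _ i.isLt).2.1⟩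
    ⟨(vPair j.val).2, (tabV_ok.2.1 _ j.isLt).2.1⟩
  rw [e1, e2, commK, beq_iff_eq]
  constructor
  · exact fun h => monoAut_congr (trP_comm _ _) (congrArg toSet h)
  · intro h
    exact toSet_inj (mask_lt ⟨(vPair j.val).1, (tabV_ok.2.1 _ j.isLt).1⟩ 0
        ⟨(vPair j.val).2, (tabV_ok.2.1 _ j.isLt).2.1⟩ ⟨(wPair i.val).2, (tabW_ok.2.2.1 _ i.isLt).2.1⟩)
      (mask_lt ⟨(wPair i.val).1, (tabW_ok.2.2.1 _ i.isLt).1⟩ 0
        ⟨(wPair i.val).2, (tabW_ok.2.2.1 _ i.isLt).2.1⟩ ⟨(vPair j.val).2, (tabV_ok.2.1 _ j.isLt).2.1⟩)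
      (monoAut_injective h).2

/-- The kernel of the conjugation action. -/
theorem ker_conjAct {g : invCent} (hg : g ∈ conjAct.ker) : (g : Co0) = 1 ∨ (g : Co0) = tNeg := by
  have hw : ∀ i, (g : Co0) * wE i * (g : Co0)⁻¹ = wE i := fun i =>
    congrArg Subtype.val (DFunLike.congr_fun (MonoidHom.mem_ker.1 hg) (tableEquiv i))
  have hv : ∀ j, (g : Co0) * vE j * (g : Co0)⁻¹ = vE j := by
    intro j
    obtain ⟨j', e⟩ := conj_vE g j
    have hpat : commPat j.val = commPat j'.val := by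
      refine List.map_congr_left fun i hi => ?_
      have hi' : i < 16 := List.mem_range.1 hi
      rw [Bool.eq_iff_iff]
      refine ((commK_iff ⟨i, hi'⟩ j).trans ?_).trans (commK_iff ⟨i, hi'⟩ j').symm
      rw [← e]
      conv_rhs => rw [← hw ⟨i, hi'⟩]
      constructor
      · intro h
        calc (g : Co0) * vE j * (g : Co0)⁻¹ * ((g : Co0) * wE ⟨i, hi'⟩ * (g : Co0)⁻¹)
            = (g : Co0) * (vE j * wE ⟨i, hi'⟩) * (g : Co0)⁻¹ := by group
          _ = (g : Co0) * (wE ⟨i, hi'⟩ * vE j) * (g : Co0)⁻¹ := by rw [h]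
          _ = _ := by group
      · intro h
        have : (g : Co0) * (vE j * wE ⟨i, hi'⟩) * (g : Co0)⁻¹ =
            (g : Co0) * (wE ⟨i, hi'⟩ * vE j) * (g : Co0)⁻¹ :=
          Eq.trans (by group) (h.trans (by group))
        exact mul_left_cancel (mul_right_cancel this)
    have := List.inj_on_of_nodup_map commPat_nodup (List.mem_range.2 j.isLt)
      (List.mem_range.2 j'.isLt) hpat
    rw [e, Fin.ext this]
  have hcw : ∀ i, Commute (g : Co0) (wE i) := fun i => mul_inv_eq_iff_eq_mul.1 (hw i)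
  have hcv : ∀ i, Commute (g : Co0) (vE i) := fun i => mul_inv_eq_iff_eq_mul.1 (hv i)
  have hct : Commute (g : Co0) tAut := Subgroup.mem_centralizer_singleton_iff.1 g.2.2
  have hall : ∀ a b, (g : Co0) * kEl a b = kEl a b * (g : Co0) := by
    intro a b
    have hn : a.val * 32 + b.val < 512 := by omega
    have h := dec_ok
    simp only [List.all_eq_true, List.mem_range, Bool.and_eq_true, decide_eq_true_eq] at h
    obtain ⟨⟨h1, h2⟩, h3⟩ := h _ hn
    have ea : (a.val * 32 + b.val) / 32 = a.val := by omega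
    have eb : (a.val * 32 + b.val) % 32 = b.val := by omega
    rw [ea, eb] at h3
    set d := tabDec.getD (a.val * 32 + b.val) (0, 0, 0)
    by_cases hd : (d.2.2 == 0) = true
    · rw [if_pos hd] at h3
      have e : wE ⟨d.1, h1⟩ * vE ⟨d.2.1, h2⟩ = kEl a b := kEl_prod h3
      rw [← e]
      exact (hcw _).mul_right (hcv _)
    · rw [if_neg hd] at h3
      have e : tAut * (wE ⟨d.1, h1⟩ * vE ⟨d.2.1, h2⟩) = kEl a b := kEl_prod_out h3
      rw [← e]
      exact hct.mul_right ((hcw _).mul_right (hcv _))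
  have hA : (g : Co0) • vecA = vecA := g.2.1.1
  rcases centralizer_kEl hall with e | e | e | e
  · exact Or.inl e
  · rw [e, tAut_vecA] at hA
    exact absurd hA vecA_ne_neg
  · rw [e, neg_smul'] at hA
    exact absurd hA vecA_ne_neg
  · exact Or.inr e

end CfsgLib.Leech.McLInvol
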