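import Cfsg.Agent.Lib.Leech.McLInvol.Group
import Cfsg.Agent.Lib.Leech.CoTwo.Image
import Cfsg.Agent.Lib.InvolChar.SmallAut

/-!
# The centraliser maps onto the alternating group of degree eight
-/

set_option autoImplicit false
set_option maxRecDepth 100000

namespace CfsgLib.Leech.McLInvol

open Cfsg CfsgLib.Golay CfsgLib.Leech CfsgLib.Leech.CoTwo CfsgLib.Leech.CoOne

theorem co_ext_gen {g h : Co0}
    (H : ∀ (v : leechLattice) (l : List ℤ), l ∈ genList → (v : GolayPt → ℤ) = toVec l → g • v = h • v) :
    g = h := by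
  refine co_ext fun v => ?_
  have := lat_induction (P := fun x => x ∈ leechLattice ∧ ∀ hx : x ∈ leechLattice, g • (⟨x, hx⟩ : leechLattice) = h • ⟨x, hx⟩)
    ⟨zero_mem _, fun hx => by
      have hz : (⟨0, hx⟩ : leechLattice) = 0 := rfl
      rw [hz, ← actHom_apply, ← actHom_apply, map_zero, map_zero]⟩
    (fun x y ⟨mx, ix⟩ ⟨my, iy⟩ => ⟨add_mem mx my, fun hxy => by
      rw [show (⟨x + y, hxy⟩ : leechLattice) = ⟨x, mx⟩ + ⟨y, my⟩ from rfl, smul_add', smul_add', ix, iy]⟩)
    (fun x ⟨mx, ix⟩ => ⟨neg_mem mx, fun hx => by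
      rw [show (⟨-x, hx⟩ : leechLattice) = -⟨x, mx⟩ from rfl, smul_neg', smul_neg', ix]⟩)
    (fun l hl => ⟨mem_of_leechTest (List.all_eq_true.1 genList_ok l hl), fun hx => H _ l hl rfl⟩) v.2
  exact this.2 v.2

theorem exists_fix {M : List (List (ℕ × ℤ))} (h : fixOk M = true) :
    ∃ g : invCent, ∀ (v : leechLattice) (l : List ℤ), (v : GolayPt → ℤ) = toVec l →
      (((g : Co0) • v : leechLattice) : GolayPt → ℤ) = toVec (imgList M l) := by
  simp only [fixOk, Bool.and_eq_true, List.all_eq_true, List.mem_range, decide_eq_true_eq,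
    beq_iff_eq] at h
  obtain ⟨⟨⟨⟨hM, hN⟩, hblock⟩, hA⟩, hB⟩ := h
  set g0 : Co0 := matAut M (trMat M) hM hN with hg0
  have hsmul : ∀ v : leechLattice, ((g0 • v : leechLattice) : GolayPt → ℤ) = applyMat M v :=
    coe_matAut_smul hM hN
  have hfix : ∀ (v : leechLattice) (l : List ℤ), (v : GolayPt → ℤ) = toVec l →
      ((g0 • v : leechLattice) : GolayPt → ℤ) = toVec (imgList M l) := fun v l e => by
    rw [hsmul, e, applyMat_toVec]
  have hmem : g0 ∈ cent0 := by
    refine Subgroup.mem_centralizer_singleton_iff.2 (co_ext fun v => Subtype.ext ?_)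
    rw [mul_smul, mul_smul, hsmul]
    funext p
    have h2 := twice_even hM v.2 p
    rw [tAut, coe_signAut_smul, coe_signAut_smul, signFlip_apply, hsmul]
    have hrow : ∀ e ∈ M.getD (ptEquiv p).val [], (pt e.1 ∈ toSet outMask ↔ p ∈ toSet outMask) := by
      intro e he
      obtain ⟨h1, h3⟩ := hblock _ (ptEquiv p).isLt e he
      rw [mem_out, mem_out, pt_mem_toSet h1, mem_toSet, h3]
    unfold applyMat applyTwice at *
    by_cases hp : p ∈ toSet outMask
    · rw [if_pos hp, rowDot_congr _ (g := -fun j => (v : GolayPt → ℤ) (pt j)) fun e he => by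
        rw [signFlip_apply, if_pos ((hrow e he).2 hp), Pi.neg_apply], rowDot_neg]
      exact Int.neg_ediv_of_dvd h2
    · rw [if_neg hp, rowDot_congr _ (g := fun j => (v : GolayPt → ℤ) (pt j)) fun e he => by
        rw [signFlip_apply, if_neg fun hc => hp ((hrow e he).1 hc)]]
  refine ⟨⟨g0, ⟨Subtype.ext ?_, Subtype.ext ?_⟩, hmem⟩, hfix⟩
  · show ((g0 • vecA : leechLattice) : GolayPt → ℤ) = _
    rw [hfix _ _ coe_vecA, hA, coe_vecA]
  · show ((g0 • vecB : leechLattice) : GolayPt → ℤ) = _
    rw [hfix _ _ coe_vecB, hB, coe_vecB]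

/-- The permutations of the sixteen elements. -/
noncomputable def numHom : MulAut tableGroup →* Equiv.Perm (Fin 16) :=
  MonoidHom.mk' (fun φ => tableEquiv.symm.permCongr φ.toEquiv) fun φ ψ => by
    ext i
    simp [Equiv.permCongr_apply]

theorem numHom_injective : Function.Injective numHom := fun φ ψ h =>
  MulEquiv.ext fun w => by
    have := congrArg (fun σ : Equiv.Perm (Fin 16) => tableEquiv (σ (tableEquiv.symm w))) h
    simpa [numHom, Equiv.permCongr_apply] using this

theorem numHom_apply {g : invCent} {i j : Fin 16}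
    (h : (g : Co0) * wE i * (g : Co0)⁻¹ = wE j) : numHom (conjAct g) i = j := by
  have e : conjAct g (tableEquiv i) = tableEquiv j := Subtype.ext h
  show tableEquiv.symm.permCongr (conjAct g).toEquiv i = j
  rw [Equiv.permCongr_apply, Equiv.symm_symm, MulEquiv.toEquiv_eq_coe, EquivLike.coe_coe, e,
    Equiv.symm_apply_apply]

/-- The image on the sixteen elements. -/
noncomputable def numRange : Subgroup (Equiv.Perm (Fin 16)) := (numHom.comp conjAct).range

theorem gen_mem {M : List (List (ℕ × ℤ))} {P : List ℕ} (hM : fixOk M = true)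
    (hP : conjOk M P = true) (hv : validL 16 P = true) :
    permOf (Equiv.refl (Fin 16)) P ∈ numRange := by
  obtain ⟨g, hg⟩ := exists_fix hM
  refine ⟨g, Equiv.ext fun i => ?_⟩
  simp only [conjOk, List.all_eq_true, List.mem_range, Bool.and_eq_true, decide_eq_true_eq,
    beq_iff_eq] at hP
  obtain ⟨hlt, hl⟩ := hP i.val i.isLt
  have hi : permOf (Equiv.refl (Fin 16)) P i = ⟨P.getD i.val 0, hlt⟩ :=
    Fin.ext (permOf_apply (Equiv.refl (Fin 16)) hv i)
  rw [hi, MonoidHom.comp_apply]
  refine numHom_apply (mul_inv_eq_iff_eq_mul.2 (co_ext_gen fun v l hlmem e => Subtype.ext ?_))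
  rw [mul_smul, mul_smul, wE, wE, hg _ _ (kEl_toVec _ _ e), kEl_toVec _ _ (hg _ _ e)]
  exact congrArg toVec (hl l hlmem)

theorem table_mem : ∀ k < permTable.length, permOf (Equiv.refl (Fin 16)) (permTable.getD k []) ∈ numRange ∧
    validL 16 (permTable.getD k []) = true := by
  obtain ⟨h3, hv, hstep⟩ := words_ok
  simp only [List.all_eq_true, List.mem_range, Bool.and_eq_true, decide_eq_true_eq, beq_iff_eq] at hv hstep
  have hgen : ∀ k < 3, permOf (Equiv.refl (Fin 16)) (permG.getD k []) ∈ numRange ∧
      validL 16 (permG.getD k []) = true := by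
    intro k hk
    have hval : validL 16 (permG.getD k []) = true :=
      hv _ (by rw [List.getD_eq_getElem _ _ (h3.symm ▸ hk)]; exact List.getElem_mem _)
    refine ⟨?_, hval⟩
    rcases (by omega : k = 0 ∨ k = 1 ∨ k = 2) with rfl | rfl | rfl
    exacts [gen_mem genA_fix.1 genA_fix.2 hval, gen_mem genB_fix.1 genB_fix.2 hval,
      gen_mem genC_fix.1 genC_fix.2 hval]
  intro k
  induction k using Nat.strong_induction_on with
  | _ k ih =>
    intro hk
    rcases Nat.lt_or_ge k 3 with hk3 | hk3
    · have e : permTable.getD k [] = permG.getD k [] := by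
        rw [permTable, List.getD_eq_getElem?_getD, List.getElem?_append_left (by omega),
          ← List.getD_eq_getElem?_getD]
      rw [e]
      exact hgen k hk3
    · obtain ⟨m, rfl⟩ : ∃ m, k = 3 + m := ⟨k - 3, by omega⟩
      have hm : m < wordTab.length := by
        simp only [permTable, List.length_append, List.length_map] at hk
        omega
      have e : permTable.getD (3 + m) [] = (wordTab.getD m ([], 0, 0)).1 := by
        rw [permTable, List.getD_eq_getElem?_getD, List.getElem?_append_right (by omega),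
          show 3 + m - permG.length = m by omega, List.getD_eq_getElem _ _ hm, List.getElem?_map,
          List.getElem?_eq_getElem hm]
        rfl
      obtain ⟨⟨⟨hvl, hg3⟩, hpar⟩, hcomp⟩ := hstep m hm
      obtain ⟨mi, vi⟩ := hgen _ hg3
      obtain ⟨mj, vj⟩ := ih _ hpar (by omega)
      rw [e]
      refine ⟨?_, hvl⟩
      rw [hcomp, permOf_comp _ vi vj (hcomp ▸ hvl)]
      exact mul_mem mi mj

/-- The stabilisers of the first unit vectors in the image. -/
noncomputable def levelGroup : ℕ → Subgroup (Equiv.Perm (Fin 16))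
  | 0 => numRange
  | l + 1 => levelGroup l ⊓ MulAction.stabilizer (Equiv.Perm (Fin 16)) (Fin.ofNat 16 (unitPt l))

theorem mem_levelGroup {σ : Equiv.Perm (Fin 16)} (h : σ ∈ numRange) :
    ∀ l, (∀ j < l, σ (Fin.ofNat 16 (unitPt j)) = Fin.ofNat 16 (unitPt j)) → σ ∈ levelGroup l
  | 0, _ => h
  | l + 1, hj => ⟨mem_levelGroup h l fun j hjl => hj j (hjl.trans (Nat.lt_succ_self l)),
      hj l (Nat.lt_succ_self l)⟩

theorem card_step {α : Type*} [Finite α] [DecidableEq α] (K : Subgroup (Equiv.Perm α)) (p : α)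
    (T : List (Equiv.Perm α)) (hT : ∀ t ∈ T, t ∈ K) (hnd : (T.map (· p)).Nodup) :
    T.length * Nat.card ↥(K ⊓ MulAction.stabilizer (Equiv.Perm α) p) ≤ Nat.card K := by
  let f : Fin T.length × ↥(K ⊓ MulAction.stabilizer (Equiv.Perm α) p) → K := fun x =>
    ⟨T[x.1.val] * x.2.val, mul_mem (hT _ (List.getElem_mem _)) x.2.2.1⟩
  have hf : Function.Injective f := by
    rintro ⟨i, s⟩ ⟨j, t⟩ h
    have h' : T[i.val] * (s : Equiv.Perm α) = T[j.val] * (t : Equiv.Perm α) := congrArg Subtype.val h
    have hp := congrArg (fun σ : Equiv.Perm α => σ p) h'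
    simp only [Equiv.Perm.mul_apply] at hp
    rw [show (s : Equiv.Perm α) p = p from s.2.2, show (t : Equiv.Perm α) p = p from t.2.2] at hp
    have hij : i.val = j.val :=
      (hnd.getElem_inj_iff (i := i.val) (hi := by simp) (j := j.val) (hj := by simp)).1 (by simpa using hp)
    obtain rfl : i = j := Fin.ext hij
    exact Prod.ext rfl (Subtype.ext (mul_left_cancel h'))
  have h := Nat.card_le_card_of_injective f hf
  rwa [Nat.card_prod, Nat.card_fin] at h

theorem unit_val : ∀ j < 4, (Fin.ofNat 16 (unitPt j)).val = unitPt j := by decide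

theorem card_level {l : ℕ} (hl : l < 4) :
    (levelTab.getD l []).length * Nat.card (levelGroup (l + 1)) ≤ Nat.card (levelGroup l) := by
  obtain ⟨-, hfix, hnd⟩ := levels_ok
  simp only [List.all_eq_true, List.mem_range, Bool.and_eq_true, decide_eq_true_eq, beq_iff_eq] at hfix
  have happly : ∀ k < permTable.length, ∀ j < 4,
      (permOf (Equiv.refl (Fin 16)) (permTable.getD k []) (Fin.ofNat 16 (unitPt j))).val =
        (permTable.getD k []).getD (unitPt j) 0 := by
    intro k hk j hj
    have h := permOf_apply (Equiv.refl (Fin 16)) (table_mem k hk).2 (Fin.ofNat 16 (unitPt j))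
    rwa [Equiv.refl_apply, Equiv.refl_apply, unit_val j hj] at h
  have h := card_step (levelGroup l) (Fin.ofNat 16 (unitPt l))
    ((levelTab.getD l []).map fun k => permOf (Equiv.refl (Fin 16)) (permTable.getD k [])) ?_ ?_
  · rwa [List.length_map] at h
  · intro t ht
    obtain ⟨k, hk, rfl⟩ := List.mem_map.1 ht
    obtain ⟨hlt, hj⟩ := hfix l hl k hk
    refine mem_levelGroup (table_mem k hlt).1 l fun j hjl => Fin.ext ?_
    rw [happly k hlt j (by omega), hj j hjl]
    exact (unit_val j (by omega)).symm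
  · refine List.Nodup.of_map (fun x : Fin 16 => x.val) ?_
    rw [List.map_map, List.map_map]
    refine (List.map_congr_left fun k hk => ?_) ▸ hnd l hl
    show _ = _
    exact (happly k (hfix l hl k hk).1 l hl).symm

theorem card_numRange : 20160 ≤ Nat.card numRange := by
  have hlen := levels_ok.1
  have hl : ∀ l < 4, (levelTab.getD l []).length = ([15, 14, 12, 8] : List ℕ).getD l 0 := fun l hl => by
    rw [← hlen, List.getD_eq_getElem?_getD, List.getD_eq_getElem?_getD, List.getElem?_map]
    cases levelTab[l]? <;> rfl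
  have h0 : 15 * Nat.card (levelGroup 1) ≤ Nat.card (levelGroup 0) := by
    have h := card_level (l := 0) (by norm_num)
    rwa [hl _ (by norm_num)] at h
  have h1 : 14 * Nat.card (levelGroup 2) ≤ Nat.card (levelGroup 1) := by
    have h := card_level (l := 1) (by norm_num)
    rwa [hl _ (by norm_num)] at h
  have h2 : 12 * Nat.card (levelGroup 3) ≤ Nat.card (levelGroup 2) := by
    have h := card_level (l := 2) (by norm_num)
    rwa [hl _ (by norm_num)] at h
  have h3 : 8 * Nat.card (levelGroup 4) ≤ Nat.card (levelGroup 3) := by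
    have h := card_level (l := 3) (by norm_num)
    rwa [hl _ (by norm_num)] at h
  have h4 : 1 ≤ Nat.card (levelGroup 4) := Nat.card_pos
  show 20160 ≤ Nat.card (levelGroup 0)
  omega

theorem card_tableGroup : Nat.card tableGroup = 16 := by
  rw [← Nat.card_congr tableEquiv, Nat.card_fin]

/-- The homomorphism onto the alternating group. -/
theorem exists_toAlt : ∃ Φ : invCent →* alternatingGroup (Fin 8), Function.Surjective Φ ∧
    ∀ g, g ∈ Φ.ker ↔ ((g : Co0) = 1 ∨ (g : Co0) = tNeg) := by
  haveI : Finite tableGroup := Finite.of_equiv _ tableEquiv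
  obtain ⟨f, hf⟩ := CfsgLib.A8.exists_aut_hom (V := tableGroup)
    (fun v => by
      obtain ⟨i, hi⟩ := v.2
      refine Subtype.ext ?_
      rw [pow_two, Subgroup.coe_mul, ← hi, wE_sq]
      rfl)
    (by rw [card_tableGroup]; norm_num)
  refine ⟨f.comp conjAct, ?_, fun g => ?_⟩
  · rw [← MonoidHom.range_eq_top]
    refine Subgroup.eq_top_of_le_card _ ?_
    rw [nat_card_alternatingGroup, Nat.card_fin, MonoidHom.range_comp, Subgroup.card_map_of_injective hf]
    have e : Nat.card conjAct.range = Nat.card numRange := by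
      rw [numRange, MonoidHom.range_comp, Subgroup.card_map_of_injective numHom_injective]
    rw [e]
    exact le_trans (by norm_num [Nat.factorial]) card_numRange
  · rw [MonoidHom.mem_ker, MonoidHom.comp_apply]
    constructor
    · exact fun h => ker_conjAct (MonoidHom.mem_ker.2 (hf (h.trans (map_one f).symm)))
    · rintro h
      rw [show conjAct g = 1 from MulEquiv.ext fun w => Subtype.ext ?_, map_one]
      rw [coe_conjAct, MulAut.one_apply]
      obtain ⟨i, hi⟩ := w.2
      rcases h with h | h
      · rw [h, one_mul, inv_one, mul_one]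
      · have ht : Commute tAut (wE i) := (Subgroup.mem_centralizer_singleton_iff.1 (kEl_mem0 _ _)).symm
        rw [h, ← hi, tNeg, mul_inv_eq_iff_eq_mul, mul_assoc, ht.eq, ← mul_assoc, negAut_comm, mul_assoc]

/-- A lift of an involution of order four. -/
theorem exists_sqrt : ∃ r : invCent, (r : Co0) * r = tNeg := by
  obtain ⟨g, hg⟩ := exists_fix matFour_ok.1
  refine ⟨g, co_ext_gen fun v l hl e => Subtype.ext ?_⟩
  rw [mul_smul, hg _ _ (hg _ _ e), beq_iff_eq.1 (List.all_eq_true.1 matFour_ok.2 l hl), tNeg, mul_smul,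
    coe_negAut_smul, tAut, coe_signAut_smul, e]
  funext p
  rw [flipO, toVec_range, Pi.neg_apply, signFlip_apply]
  by_cases hp : p ∈ toSet octMask
  · rw [if_neg (fun h => mem_out.1 h hp), if_pos (mem_toSet.1 hp)]
    rfl
  · rw [if_pos (mem_out.2 hp), if_neg (fun h => hp (mem_toSet.2 h)), toVec, neg_neg]

end CfsgLib.Leech.McLInvol
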