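import Cfsg.Agent.Lib.Leech.McLInvol.Image

/-!
# All involutions of the stabiliser of the two vectors are conjugate
-/

set_option autoImplicit false
set_option maxRecDepth 100000

namespace CfsgLib.Leech.McLInvol

open Cfsg CfsgLib.Golay CfsgLib.Leech CfsgLib.Leech.CoTwo CfsgLib.Leech.CoOne

open scoped Pointwise symmDiff

/-- Involutions of an alternating group with the same cycle type are conjugate. -/
theorem isConj_alt {σ τ : alternatingGroup (Fin 8)} (hσ : σ * σ = 1) (hσ1 : σ ≠ 1)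
    (h : (σ : Equiv.Perm (Fin 8)).cycleType = (τ : Equiv.Perm (Fin 8)).cycleType) : IsConj σ τ := by
  obtain ⟨π, hπ⟩ := isConj_iff.1 (Equiv.Perm.isConj_iff_cycleType_eq.2 h)
  rcases Int.units_eq_one_or (Equiv.Perm.sign π) with hs | hs
  · exact isConj_iff.2 ⟨⟨π, Equiv.Perm.mem_alternatingGroup.2 hs⟩, Subtype.ext hπ⟩
  · obtain ⟨i, hi⟩ : ∃ i, (σ : Equiv.Perm (Fin 8)) i ≠ i := by
      by_contra hne
      push Not at hne
      exact hσ1 (Subtype.ext (Equiv.ext hne))
    set s := Equiv.swap i ((σ : Equiv.Perm (Fin 8)) i) with hsdef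
    have hsq : ∀ j, (σ : Equiv.Perm (Fin 8)) ((σ : Equiv.Perm (Fin 8)) j) = j := fun j =>
      congrArg (fun f : alternatingGroup (Fin 8) => (f : Equiv.Perm (Fin 8)) j) hσ
    have hcomm : s * (σ : Equiv.Perm (Fin 8)) * s⁻¹ = σ := by
      rw [mul_inv_eq_iff_eq_mul, hsdef]
      have h2 := Equiv.swap_mul_eq_mul_swap (σ : Equiv.Perm (Fin 8)) i ((σ : Equiv.Perm (Fin 8)) i)
      rw [h2, Equiv.Perm.inv_def, Equiv.symm_apply_apply, (Equiv.symm_apply_eq _).2 (hsq i).symm,
        Equiv.swap_comm]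
    refine isConj_iff.2 ⟨⟨π * s, Equiv.Perm.mem_alternatingGroup.2 ?_⟩, Subtype.ext ?_⟩
    · rw [map_mul, hs, Equiv.Perm.sign_swap (Ne.symm hi), Int.units_mul_self]
    · show π * s * (σ : Equiv.Perm (Fin 8)) * (π * s)⁻¹ = _
      rw [← hπ]
      conv_rhs => rw [← hcomm]
      group

theorem cycleType_cases {σ : alternatingGroup (Fin 8)} (hσ : σ * σ = 1) (hσ1 : σ ≠ 1) :
    (σ : Equiv.Perm (Fin 8)).cycleType = Multiset.replicate 2 2 ∨
      (σ : Equiv.Perm (Fin 8)).cycleType = Multiset.replicate 4 2 := by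
  have : Fact (Nat.Prime 2) := ⟨Nat.prime_two⟩
  have ho : orderOf (σ : Equiv.Perm (Fin 8)) = 2 := by
    rw [Subgroup.orderOf_coe]
    exact orderOf_eq_prime (by rw [pow_two, hσ]) hσ1
  obtain ⟨n, hn⟩ := Equiv.Perm.cycleType_prime_order (σ := (σ : Equiv.Perm (Fin 8)))
    (by rw [ho]; exact Nat.prime_two)
  rw [ho] at hn
  have hle := Equiv.Perm.sum_cycleType_le (σ : Equiv.Perm (Fin 8))
  rw [hn, Multiset.sum_replicate, smul_eq_mul, Fintype.card_fin] at hle
  have hsg : Equiv.Perm.sign (σ : Equiv.Perm (Fin 8)) = 1 := Equiv.Perm.mem_alternatingGroup.1 σ.2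
  rw [Equiv.Perm.sign_of_cycleType, hn, Multiset.sum_replicate, Multiset.card_replicate, smul_eq_mul] at hsg
  rw [hn]
  rcases (by omega : n = 0 ∨ n = 1 ∨ n = 2 ∨ n = 3) with rfl | rfl | rfl | rfl
  · exact absurd hsg (by decide)
  · exact Or.inl rfl
  · exact absurd hsg (by decide)
  · exact Or.inr rfl

theorem conj_of_three {a b c : alternatingGroup (Fin 8)} (ha : a * a = 1 ∧ a ≠ 1)
    (hb : b * b = 1 ∧ b ≠ 1) (hc : c * c = 1 ∧ c ≠ 1) : IsConj a b ∨ IsConj a c ∨ IsConj b c := by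
  rcases cycleType_cases ha.1 ha.2 with h1 | h1 <;> rcases cycleType_cases hb.1 hb.2 with h2 | h2 <;>
    rcases cycleType_cases hc.1 hc.2 with h3 | h3
  all_goals first
    | exact Or.inl (isConj_alt ha.1 ha.2 (h1.trans h2.symm))
    | exact Or.inr (Or.inl (isConj_alt ha.1 ha.2 (h1.trans h3.symm)))
    | exact Or.inr (Or.inr (isConj_alt hb.1 hb.2 (h2.trans h3.symm)))

theorem octCode : CodeSet (toSet octMask) :=
  mem_supports.2 ⟨_, mem_golayList_of_inCode octMask_ok.1, rfl⟩

theorem invCode : CodeSet (toSet octInv) :=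
  mem_supports.2 ⟨_, mem_golayList_of_inCode oct_ok.1, rfl⟩

theorem tNeg_eq_mono : tNeg = monoAut 1 (one_mem M24) (toSet octMask) octCode := by
  refine co_ext fun v => Subtype.ext (funext fun i => ?_)
  rw [tNeg, mul_smul, coe_negAut_smul, Pi.neg_apply, tAut, coe_signAut_smul, signFlip_apply,
    coe_monoAut_smul]
  by_cases hi : i ∈ toSet octMask <;> simp [signedPerm, hi, mem_out, Equiv.Perm.one_def]

theorem tNeg_ne_one : tNeg ≠ 1 := by
  intro h
  obtain ⟨b, -, e⟩ := tAut_eq_kEl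
  have h' := congrArg (fun g : Co0 => g • rootW 0) h
  simp only [tNeg, mul_smul, e, kEl_fix, neg_smul', one_smul] at h'
  exact rootW_ne.2 h'.symm

/-- The distinguished involution in the centraliser. -/
noncomputable def zInv : invCent := ⟨tNeg, tNeg_mem⟩

theorem zInv_ne_one : zInv ≠ 1 := fun h => tNeg_ne_one (congrArg Subtype.val h)

theorem zInv_comm (g : invCent) : g * zInv = zInv * g := by
  refine Subtype.ext ?_
  show (g : Co0) * (negAut * tAut) = negAut * tAut * (g : Co0)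
  rw [← mul_assoc, ← negAut_comm, mul_assoc, mul_assoc,
    Subgroup.mem_centralizer_singleton_iff.1 g.2.2]

theorem zInv_sq : zInv * zInv = 1 := by
  refine Subtype.ext ?_
  show negAut * tAut * (negAut * tAut) = 1
  rw [mul_assoc, ← mul_assoc tAut, ← negAut_comm, mul_assoc, tAut_mul_self, mul_one, negAut_sq]

/-- The sign change of an octad missing both supports. -/
noncomputable def octSign : Co0 :=
  monoAut 1 (one_mem M24) (toSet octInv) invCode

theorem octSign_mem : octSign ∈ invCent := by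
  have hfix : ∀ (v : leechLattice) (l : List ℤ), (v : GolayPt → ℤ) = toVec l →
      (∀ i < 24, octInv.testBit i = true → l.getD i 0 = 0) → octSign • v = v := by
    intro v l hv h0
    refine Subtype.ext (funext fun p => ?_)
    rw [octSign, coe_monoAut_smul, signedPerm]
    split
    · rename_i h
      rw [hv]
      simp only [toVec, Equiv.Perm.one_def, Equiv.refl_symm, Equiv.refl_apply]
      rw [h0 _ (ptEquiv p).isLt (mem_toSet.1 h), neg_zero]
    · rfl
  refine ⟨⟨hfix _ _ coe_vecA fun i hi h => (oct_ok.2.2.2.2.1 i hi h).1,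
    hfix _ _ coe_vecB fun i hi h => (oct_ok.2.2.2.2.1 i hi h).2⟩,
    Subgroup.mem_centralizer_singleton_iff.2 ?_⟩
  rw [octSign, tAut_eq_mono, monoAut_mul, monoAut_mul]
  exact monoAut_congr rfl (by rw [one_smul, one_smul, symmDiff_comm])

/-- The second involution. -/
noncomputable def wInv : invCent := ⟨octSign, octSign_mem⟩

theorem conj_move {L : List ℕ} {c : ℕ} (hmv : moveOk L c = true) (hc : CodeSet (toSet c)) :
    ∃ π ∈ pairStab, π * tNeg = monoAut 1 (one_mem M24) (toSet c) hc * π := by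
  simp only [moveOk, Bool.and_eq_true, List.all_eq_true, List.mem_range, beq_iff_eq] at hmv
  obtain ⟨⟨⟨hv, hm⟩, himg⟩, hfix⟩ := hmv
  set σ := permOf ptEquiv L
  have hσ : σ ∈ M24 := mem_M24_of_test hm
  have key : ∀ (v : leechLattice) (l : List ℤ), (v : GolayPt → ℤ) = toVec l →
      (∀ i < 24, l.getD (L.getD i 0) 0 = l.getD i 0) → monoAut σ hσ ∅ codeSet_empty • v = v := by
    intro v l hl h
    refine Subtype.ext (funext fun p => ?_)
    rw [coe_monoAut_smul, signedPerm, if_neg (Finset.notMem_empty _), hl]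
    obtain ⟨q, rfl⟩ := σ.surjective p
    rw [Equiv.symm_apply_apply, toVec, toVec, permOf_apply ptEquiv hv, h _ (ptEquiv q).isLt]
  refine ⟨monoAut σ hσ ∅ codeSet_empty,
    ⟨key _ _ coe_vecA fun i hi => (hfix i hi).1, key _ _ coe_vecB fun i hi => (hfix i hi).2⟩, ?_⟩
  rw [tNeg_eq_mono, monoAut_mul, monoAut_mul]
  refine monoAut_congr (by rw [mul_one, one_mul]) ?_
  rw [one_smul, smul_toSet hv, himg]
  simp only [← Finset.bot_eq_empty, bot_symmDiff, symmDiff_bot]

/-- Two elements of the pair stabiliser are conjugate in it. -/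
def PairConj (x y : Co0) : Prop := ∃ g ∈ pairStab, g * x * g⁻¹ = y

theorem PairConj.trans' {x y z : Co0} : PairConj x y → PairConj y z → PairConj x z := by
  rintro ⟨g, hg, rfl⟩ ⟨h, hh, rfl⟩
  exact ⟨h * g, mul_mem hh hg, by group⟩

theorem pairConj_octSign : PairConj tNeg octSign ∧ PairConj tNeg (octSign * tNeg) := by
  obtain ⟨π, hπ, e⟩ := conj_move oct_ok.2.2.2.2.2.1
    invCode
  have hC : CodeSet (toSet (octInv ^^^ octMask)) := toSet_xor _ _ ▸ codeSet_symmDiff invCode octCode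
  obtain ⟨π', hπ', e'⟩ := conj_move oct_ok.2.2.2.2.2.2 hC
  refine ⟨⟨π, hπ, ?_⟩, π', hπ', ?_⟩
  · rw [mul_inv_eq_iff_eq_mul]; exact e
  · rw [mul_inv_eq_iff_eq_mul, e', octSign, tNeg_eq_mono, monoAut_mul]
    exact congrArg (· * π') (monoAut_congr (mul_one 1).symm (by rw [one_smul, toSet_xor]))

theorem octSign_sq : octSign * octSign = 1 := by
  rw [octSign, monoAut_mul, ← monoAut_one]
  exact monoAut_congr (mul_one 1) (by rw [one_smul, symmDiff_self]; rfl)

theorem wInv_not_ker {Φ : invCent →* alternatingGroup (Fin 8)}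
    (hΦ : ∀ g, g ∈ Φ.ker ↔ ((g : Co0) = 1 ∨ (g : Co0) = tNeg)) : Φ wInv ≠ 1 := by
  intro h
  rcases (hΦ wInv).1 h with e | e
  · rw [← monoAut_one] at e
    have h0 : (∅ : Finset GolayPt) = toSet 0 := by ext p; simp [mem_toSet]
    exact oct_ok.2.2.1 (toSet_inj oct_ok.2.1 (by norm_num) ((monoAut_injective e).2.trans h0))
  · rw [tNeg_eq_mono] at e
    exact oct_ok.2.2.2.1 (toSet_inj oct_ok.2.1 (by decide +kernel) (monoAut_injective e).2)

/-- Every involution of the centraliser is conjugate to the distinguished one. -/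
theorem pairConj_invCent {x : invCent} (hx : x * x = 1) (hx1 : x ≠ 1) : PairConj tNeg (x : Co0) := by
  obtain ⟨Φ, hsurj, hker⟩ := exists_toAlt
  by_cases hk : Φ x = 1
  · rcases (hker x).1 hk with e | e
    · exact absurd (Subtype.ext e) hx1
    · exact ⟨1, one_mem _, by rw [e]; group⟩
  obtain ⟨r, hr⟩ := exists_sqrt
  have hz : Φ zInv = 1 := (hker zInv).2 (Or.inr rfl)
  have hr' : r * r = zInv := Subtype.ext hr
  have hr1 : Φ r ≠ 1 := fun h => by
    rcases (hker r).1 h with e | e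
    · rw [e, mul_one] at hr; exact tNeg_ne_one hr.symm
    · have h1 : r = zInv := Subtype.ext e
      rw [h1, zInv_sq] at hr'
      exact zInv_ne_one hr'.symm
  have lift : ∀ {a b : invCent}, IsConj (Φ a) (Φ b) → ∃ g : invCent, b = g * a * g⁻¹ ∨ b = g * a * g⁻¹ * zInv := by
    intro a b h
    obtain ⟨u, hu⟩ := isConj_iff.1 h
    obtain ⟨g, rfl⟩ := hsurj u
    refine ⟨g, ?_⟩
    have hd : (g * a * g⁻¹)⁻¹ * b ∈ Φ.ker := by
      rw [MonoidHom.mem_ker, map_mul, map_inv, map_mul, map_mul, map_inv, hu, inv_mul_cancel]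
    rcases (hker _).1 hd with e | e
    · exact Or.inl (inv_mul_eq_one.1 (Subtype.ext e)).symm
    · refine Or.inr ?_
      rw [← show (g * a * g⁻¹)⁻¹ * b = zInv from Subtype.ext e, mul_inv_cancel_left]
  have hw2 : wInv * wInv = 1 := Subtype.ext octSign_sq
  rcases conj_of_three (a := Φ wInv) (b := Φ x) (c := Φ r)
      ⟨by rw [← map_mul, hw2, map_one], wInv_not_ker hker⟩ ⟨by rw [← map_mul, hx, map_one], hk⟩
      ⟨by rw [← map_mul, hr', hz], hr1⟩ with h | h | h
  · obtain ⟨g, e | e⟩ := lift h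
    · exact pairConj_octSign.1.trans' ⟨g, g.2.1, congrArg Subtype.val e.symm⟩
    · refine pairConj_octSign.2.trans' ⟨g, g.2.1, ?_⟩
      have e' : x = g * (wInv * zInv) * g⁻¹ := by
        rw [e, mul_assoc _ g⁻¹, zInv_comm g⁻¹]; group
      exact congrArg Subtype.val e'.symm
  · exfalso
    obtain ⟨g, e | e⟩ := lift h
    · refine zInv_ne_one ?_
      rw [← hr', e, show g * wInv * g⁻¹ * (g * wInv * g⁻¹) = g * (wInv * wInv) * g⁻¹ by group, hw2]
      group
    · refine zInv_ne_one ?_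
      rw [← hr', e, show g * wInv * g⁻¹ * zInv * (g * wInv * g⁻¹ * zInv) =
        g * wInv * g⁻¹ * (zInv * (g * wInv * g⁻¹)) * zInv by group, ← zInv_comm (g * wInv * g⁻¹),
        show g * wInv * g⁻¹ * (g * wInv * g⁻¹ * zInv) * zInv = g * (wInv * wInv) * g⁻¹ * (zInv * zInv) by group,
        hw2, zInv_sq]
      group
  · exfalso
    obtain ⟨g, e | e⟩ := lift h
    · refine zInv_ne_one ?_
      rw [← hr', e, show g * x * g⁻¹ * (g * x * g⁻¹) = g * (x * x) * g⁻¹ by group, hx]
      group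
    · refine zInv_ne_one ?_
      rw [← hr', e, show g * x * g⁻¹ * zInv * (g * x * g⁻¹ * zInv) =
        g * x * g⁻¹ * (zInv * (g * x * g⁻¹)) * zInv by group, ← zInv_comm (g * x * g⁻¹),
        show g * x * g⁻¹ * (g * x * g⁻¹ * zInv) * zInv = g * (x * x) * g⁻¹ * (zInv * zInv) by group,
        hx, zInv_sq]
      group

theorem card_invCent : Nat.card invCent = 40320 := by
  obtain ⟨Φ, hsurj, hker⟩ := exists_toAlt
  have h2 : Nat.card Φ.ker = 2 := by
    rw [Nat.card_eq_two_iff]
    refine ⟨1, ⟨zInv, (hker zInv).2 (Or.inr rfl)⟩, fun h => zInv_ne_one (congrArg Subtype.val h).symm,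
      Set.eq_univ_iff_forall.2 fun g => ?_⟩
    rcases (hker g.1).1 g.2 with e | e
    · exact Or.inl (Subtype.ext (Subtype.ext e))
    · exact Or.inr (Subtype.ext (Subtype.ext e))
  have h := Φ.ker.card_mul_index
  rw [Subgroup.index_ker, MonoidHom.range_eq_top.2 hsurj, Subgroup.card_top, h2,
    nat_card_alternatingGroup, Nat.card_fin] at h
  rw [← h]
  norm_num [Nat.factorial]

/-- A centralising subgroup of order 40320 in a group of order 898128000 meets every class of involutions. -/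
theorem exists_conj_mem {H : Type*} [Group H] [Finite H] (hH : Nat.card H = 898128000) (K : Subgroup H)
    (hK : Nat.card K = 40320) {x : H} (hx : x * x = 1) : ∃ g : H, g * x * g⁻¹ ∈ K := by
  have : Fact (Nat.Prime 2) := ⟨Nat.prime_two⟩
  obtain ⟨S, hS⟩ := Sylow.exists_subgroup_card_pow_prime (G := K) 2 (n := 7) (by rw [hK]; norm_num)
  set S' := S.map K.subtype with hS'
  have hcard : Nat.card S' = 2 ^ 7 := by
    rw [hS', Subgroup.card_map_of_injective K.subtype_injective, hS]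
  obtain ⟨Q, hQ⟩ := (IsPGroup.of_card hcard).exists_le_sylow
  have hfac : (898128000 : ℕ).factorization 2 = 7 := by
    rw [show (898128000 : ℕ) = 2 ^ 7 * 7016625 by norm_num, Nat.factorization_mul (by norm_num) (by norm_num),
      Finsupp.add_apply, Nat.Prime.factorization_pow Nat.prime_two, Finsupp.single_eq_same,
      Nat.factorization_eq_zero_of_not_dvd (by norm_num)]
  have hQc : Nat.card Q = 2 ^ 7 := by rw [Q.card_eq_multiplicity, hH, hfac]
  have heq : S' = (Q : Subgroup H) := Subgroup.eq_of_le_of_card_ge hQ (by rw [hcard]; exact le_of_eq hQc)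
  have hx2 : IsPGroup 2 (Subgroup.zpowers x) := by
    obtain ⟨k, -, hk⟩ := (Nat.dvd_prime_pow Nat.prime_two).1
      (orderOf_dvd_of_pow_eq_one (show x ^ 2 ^ 1 = 1 by rw [pow_one, pow_two, hx]))
    exact IsPGroup.of_card (n := k) (by rw [Nat.card_zpowers, hk])
  obtain ⟨P, hP⟩ := hx2.exists_le_sylow
  obtain ⟨g, hg⟩ := MulAction.exists_smul_eq H P Q
  refine ⟨g, ?_⟩
  have hmem : g * x * g⁻¹ ∈ (Q : Subgroup H) := by
    rw [← hg, Sylow.coe_subgroup_smul, Subgroup.mem_pointwise_smul_iff_inv_smul_mem]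
    have : (MulAut.conj g)⁻¹ • (g * x * g⁻¹) = x := by
      rw [MulAut.smul_def, MulAut.inv_apply, MulEquiv.symm_apply_eq]
      rfl
    rw [this]
    exact hP (Subgroup.mem_zpowers x)
  rw [← heq] at hmem
  obtain ⟨y, -, e⟩ := hmem
  exact e ▸ y.2

end CfsgLib.Leech.McLInvol
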